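import Cfsg.Agent.ChevGrp.RGrp

set_option autoImplicit false

/-!
Abstract root subgroups of classical type `C` / `BC` / `D`, indexed by unordered pairs of an index set with a fixed point
free involution: the coset enumeration for the stabilizer of a line and the descent to the torus.
-/

namespace Cfsg.Agent.Stb

open Subgroup
open scoped commutatorElement

variable {I Γ : Type*} [InvolutiveNeg I] [DecidableEq I] [Group Γ]

/-- coefficient at `m` of the root `e_k + e_l` -/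
def cf (k l m : I) : ℤ :=
  (if k = m then 1 else 0) + (if l = m then 1 else 0) - (if k = -m then 1 else 0) - (if l = -m then 1 else 0)

/-- the reflection in `e_i + e_j` -/
def rf (i j k : I) : I :=
  if k = i then -j else if k = j then -i else if k = -i then j else if k = -j then i else k

lemma cf_comm (k l m : I) : cf k l m = cf l k m := by unfold cf; ring

lemma cf_neg (k l m : I) : cf k l (-m) = -cf k l m := by unfold cf; rw [neg_neg]; ring

section lem

variable (ne : ∀ i : I, -i ≠ i)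

include ne

lemma ne' (i : I) : i ≠ -i := fun h => ne i h.symm

lemma cf_bd (k l : I) {i j : I} (h1 : i ≠ j) (h2 : i ≠ -j) : |cf k l i| + |cf k l j| ≤ 2 := by
  have a1 := ne' ne i
  have a2 := ne' ne j
  have a3 : -i ≠ j := fun h => h2 (by rw [← h, neg_neg])
  have a4 : -i ≠ -j := fun h => h1 (neg_inj.1 h)
  unfold cf
  by_cases k1 : k = i
  · subst k1
    simp only [if_pos rfl, if_neg h1, if_neg h2, if_neg a1]
    by_cases l1 : l = k
    · subst l1; simp [h1, h2, a1]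
    · by_cases l2 : l = -k
      · subst l2; simp [l1, a3, a4]
      · simp only [if_neg l1, if_neg l2]
        split_ifs <;> simp
  · by_cases k2 : k = -i
    · subst k2
      simp only [if_neg k1, if_neg a3, if_neg a4, if_pos rfl]
      by_cases l1 : l = i
      · subst l1; simp [h1, h2, a1]
      · by_cases l2 : l = -i
        · subst l2; simp [l1, a3, a4]
        · simp only [if_neg l1, if_neg l2]
          split_ifs <;> simp
    · simp only [if_neg k1, if_neg k2]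
      by_cases l1 : l = i
      · subst l1
        simp only [if_pos rfl, if_neg h1, if_neg h2, if_neg a1]
        split_ifs <;> simp
      · by_cases l2 : l = -i
        · subst l2
          simp only [if_neg l1, if_pos rfl, if_neg a3, if_neg a4]
          split_ifs <;> simp
        · simp only [if_neg l1, if_neg l2]
          split_ifs <;> simp

lemma cf_cases {k l : I} (hkl : k ≠ -l) (i : I) :
    (cf k l i = 2 ∧ k = i ∧ l = i) ∨ (cf k l i = -2 ∧ k = -i ∧ l = -i) ∨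
    (cf k l i = 1 ∧ k = i ∧ l ≠ i ∧ l ≠ -i) ∨ (cf k l i = 1 ∧ l = i ∧ k ≠ i ∧ k ≠ -i) ∨
    (cf k l i = -1 ∧ k = -i ∧ l ≠ i ∧ l ≠ -i) ∨ (cf k l i = -1 ∧ l = -i ∧ k ≠ i ∧ k ≠ -i) ∨
    (cf k l i = 0 ∧ k ≠ i ∧ k ≠ -i ∧ l ≠ i ∧ l ≠ -i) := by
  have a1 := ne' ne i
  have a2 := ne i
  unfold cf
  by_cases k1 : k = i
  · subst k1
    have l2 : l ≠ -k := fun h => hkl (by rw [h, neg_neg])
    by_cases l1 : l = k
    · subst l1; simp [a1]
    · simp [l1, l2, a1]
  · by_cases k2 : k = -i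
    · subst k2
      have l2 : l ≠ i := fun h => hkl (by rw [h])
      by_cases l1 : l = -i
      · subst l1; simp [a2]
      · simp [l1, l2, a2]
    · by_cases l1 : l = i
      · subst l1; simp [k1, k2, a1]
      · by_cases l2 : l = -i
        · subst l2; simp [k1, k2, a2]
        · simp [k1, k2, l1, l2]

omit ne in
lemma rf_comm (i j k : I) (h : i ≠ -j) : rf i j k = rf j i k := by
  have h' : j ≠ -i := fun e => h (by rw [e, neg_neg])
  unfold rf
  split_ifs <;> simp_all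

lemma rf_neg (i j k : I) (h : i ≠ -j) : rf i j (-k) = -rf i j k := by
  have h' : j ≠ -i := fun e => h (by rw [e, neg_neg])
  have b1 : (-k = i) ↔ (k = -i) := by rw [neg_eq_iff_eq_neg]
  have b2 : (-k = j) ↔ (k = -j) := by rw [neg_eq_iff_eq_neg]
  have b3 : (-k = -i) ↔ (k = i) := neg_inj
  have b4 : (-k = -j) ↔ (k = j) := neg_inj
  have a1 := ne' ne i
  have a2 := ne i
  have a3 := ne' ne j
  have a4 := ne j
  unfold rf
  simp only [b1, b2, b3, b4]
  by_cases k1 : k = i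
  · subst k1; simp [a1, h]
  · by_cases k2 : k = j
    · subst k2; simp [a3, h', k1]
    · have h1 : ¬ (-i = j) := fun e => h (neg_eq_iff_eq_neg.1 e)
      have h2 : ¬ (-j = i) := fun e => h' (neg_eq_iff_eq_neg.1 e)
      by_cases k3 : k = -i
      · subst k3; simp [a2, h1]
      · by_cases k4 : k = -j
        · subst k4
          have h3 : ¬ (j = i) := fun e => k3 (by rw [e])
          simp [a4, h2, h3]
        · simp [k1, k2, k3, k4]

lemma rf_rf (i j k : I) (h : i ≠ -j) : rf i j (rf i j k) = k := by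
  have h' : j ≠ -i := fun e => h (by rw [e, neg_neg])
  have a1 := ne' ne i
  have a2 := ne i
  have a3 := ne' ne j
  have a4 := ne j
  have r1 : rf i j i = -j := by unfold rf; simp
  have r2 : rf i j j = -i := by
    unfold rf
    by_cases e : j = i
    · rw [if_pos e, e]
    · rw [if_neg e, if_pos rfl]
  by_cases k1 : k = i
  · subst k1
    rw [r1, rf_neg ne _ _ _ h, r2, neg_neg]
  · by_cases k2 : k = j
    · subst k2
      rw [r2, rf_neg ne _ _ _ h, r1, neg_neg]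
    · by_cases k3 : k = -i
      · subst k3
        rw [rf_neg ne _ _ _ h, rf_neg ne _ _ _ h, r1, rf_neg ne _ _ _ h, r2]
        simp
      · by_cases k4 : k = -j
        · subst k4
          rw [rf_neg ne _ _ _ h, rf_neg ne _ _ _ h, r2, rf_neg ne _ _ _ h, r1]
          simp
        · have : rf i j k = k := by unfold rf; simp [k1, k2, k3, k4]
          rw [this, this]

lemma rf_inj {i j k l : I} (h : i ≠ -j) : rf i j k = rf i j l ↔ k = l :=
  ⟨fun e => by rw [← rf_rf ne i j k h, e, rf_rf ne i j l h], fun e => by rw [e]⟩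

lemma cf_rf {i j : I} (h : i ≠ -j) (k l m : I) : cf (rf i j k) (rf i j l) (rf i j m) = cf k l m := by
  unfold cf
  simp only [← rf_neg ne i j _ h, rf_inj ne h]

lemma cf_rf' {i j : I} (h : i ≠ -j) (k l m : I) : cf (rf i j k) (rf i j l) m = cf k l (rf i j m) := by
  rw [← cf_rf ne h k l (rf i j m), rf_rf ne i j m h]

lemma rf_ne_neg {i j k l : I} (h : i ≠ -j) (hkl : k ≠ -l) : rf i j k ≠ -rf i j l := by
  rw [← rf_neg ne i j l h]
  exact fun e => hkl ((rf_inj ne h).1 e)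

end lem

/-- the roots which occur in the commutator of the root groups `(k, l)` and `(k', l')` -/
def SumP (k l k' l' p q : I) : Prop :=
  p ≠ -q ∧ ((∀ m, cf p q m = cf k l m + cf k' l' m) ∨ (∀ m, cf p q m = 2 * cf k l m + cf k' l' m) ∨
    (∀ m, cf p q m = cf k l m + 2 * cf k' l' m) ∨ (k = l ∧ k' = l' ∧ ∀ m, 2 * cf p q m = cf k l m + cf k' l' m))

/-- opposite roots -/
def Opp (k l k' l' : I) : Prop := (k' = -k ∧ l' = -l) ∨ (k' = -l ∧ l' = -k)

/-- the group generated by the root groups of the roots satisfying `P` -/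
def gp (X : I → I → Subgroup Γ) (P : I → I → Prop) : Subgroup Γ := closure {g | ∃ k l, k ≠ -l ∧ P k l ∧ g ∈ X k l}

section gp

omit [DecidableEq I]

variable {X : I → I → Subgroup Γ}

lemma X_le_gp {P : I → I → Prop} {k l : I} (hkl : k ≠ -l) (h : P k l) : X k l ≤ gp X P :=
  fun _ hx => subset_closure ⟨k, l, hkl, h, hx⟩

lemma gp_le {P : I → I → Prop} {K : Subgroup Γ} (h : ∀ k l, k ≠ -l → P k l → X k l ≤ K) : gp X P ≤ K := by
  unfold gp
  rw [closure_le]
  rintro g ⟨k, l, hkl, hP, hg⟩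
  exact h k l hkl hP hg

lemma gp_mono {P Q : I → I → Prop} (h : ∀ k l, k ≠ -l → P k l → Q k l) : gp X P ≤ gp X Q :=
  gp_le fun _ _ hkl hP => X_le_gp hkl (h _ _ hkl hP)

/-- mutual normalization from generators -/
lemma norm_gp {P Q : I → I → Prop} (h : ∀ k l, k ≠ -l → P k l → ∀ k' l', k' ≠ -l' → Q k' l' → ∀ x ∈ X k l, ∀ y ∈ X k' l',
    x * y * x⁻¹ ∈ gp X Q) : ∀ x ∈ gp X P, ∀ y ∈ gp X Q, x * y * x⁻¹ ∈ gp X Q := by
  have h1 : ∀ k l, k ≠ -l → P k l → ∀ x ∈ X k l, ∀ y ∈ gp X Q, x * y * x⁻¹ ∈ gp X Q := by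
    intro k l hkl hP x hx
    have : gp X Q ≤ (gp X Q).comap (MulAut.conj x).toMonoidHom := gp_le fun k' l' hkl' hQ y hy => by
      rw [mem_comap]; exact h k l hkl hP k' l' hkl' hQ x hx y hy
    intro y hy
    exact this hy
  intro x hx
  unfold gp at hx
  have key : (∀ z ∈ gp X Q, x * z * x⁻¹ ∈ gp X Q) ∧ (∀ z ∈ gp X Q, x⁻¹ * z * x ∈ gp X Q) := by
    induction hx using closure_induction with
    | mem x hx =>
      obtain ⟨k, l, hkl, hP, hx⟩ := hx
      refine ⟨h1 k l hkl hP x hx, fun z hz => ?_⟩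
      have := h1 k l hkl hP x⁻¹ (inv_mem hx) z hz
      rwa [inv_inv] at this
    | one => simp
    | mul a b _ _ ha hb =>
      refine ⟨fun z hz => ?_, fun z hz => ?_⟩
      · have := ha.1 _ (hb.1 z hz)
        simpa [mul_assoc] using this
      · have := hb.2 _ (ha.2 z hz)
        simpa [mul_assoc] using this
    | inv a _ ha => exact ⟨fun z hz => by rw [inv_inv]; exact ha.2 z hz, fun z hz => by rw [inv_inv]; exact ha.1 z hz⟩
  exact key.1

end gp

/-- Abstract root subgroups (roots are unordered pairs `{k, l}` with `k ≠ -l`): commutator relations. -/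
structure Com (X : I → I → Subgroup Γ) : Prop where
  ne : ∀ i : I, -i ≠ i
  Xs : ∀ i j, X i j = X j i
  c1 : ∀ {i j k : I}, i ≠ j → i ≠ -j → j ≠ k → j ≠ -k → i ≠ k → i ≠ -k → ∀ x ∈ X i j, ∀ y ∈ X (-j) k, ⁅x, y⁆ ∈ X i k
  c2 : ∀ {i j : I}, i ≠ j → i ≠ -j → ∀ x ∈ X i j, ∀ y ∈ X (-j) i, ⁅x, y⁆ ∈ X i i
  c3 : ∀ {i j : I}, i ≠ j → i ≠ -j → ∀ x ∈ X i i, ∀ y ∈ X (-i) j, ⁅x, y⁆ ∈ X i j ⊔ X j j
  c4 : ∀ {i j k l : I}, i ≠ -j → k ≠ -l → k ≠ -i → k ≠ -j → l ≠ -i → l ≠ -j → ¬ (i = j ∧ k = l) →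
    ∀ x ∈ X i j, ∀ y ∈ X k l, ⁅x, y⁆ = 1
  c5 : ∀ {i j : I}, i ≠ j → i ≠ -j → ∀ x ∈ X i i, ∀ y ∈ X j j, ⁅x, y⁆ ∈ X i j

/-- Abstract root subgroups (roots are unordered pairs `{k, l}` with `k ≠ -l`) and the sets `M k l` of elements inducing
the reflections. -/
structure Cls (X : I → I → Subgroup Γ) (M : I → I → Set Γ) : Prop extends Com X where
  Ms : ∀ i j, M i j = M j i
  Mn : ∀ i j, i ≠ -j → M (-i) (-j) = M i j
  M_ne : ∀ i j, i ≠ -j → (M i j).Nonempty
  M_inv : ∀ i j, i ≠ -j → ∀ m ∈ M i j, m⁻¹ ∈ M i j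
  M_X : ∀ i j, i ≠ -j → ∀ k l, k ≠ -l → ∀ m ∈ M i j, ∀ x ∈ X k l, m * x * m⁻¹ ∈ X (rf i j k) (rf i j l)
  M_M : ∀ i j, i ≠ -j → ∀ k l, k ≠ -l → ∀ m ∈ M i j, ∀ m' ∈ M k l, m * m' * m⁻¹ ∈ M (rf i j k) (rf i j l)
  M_gp : ∀ i j, i ≠ -j → ∀ m ∈ M i j, m ∈ X i j ⊔ X (-i) (-j)
  rank1 : ∀ i j, i ≠ -j → ∀ x ∈ X i j, x ≠ 1 → ∃ a ∈ X (-i) (-j), ∃ b ∈ X (-i) (-j), ∃ m ∈ M i j, x = a * m * b

namespace Com

variable {X : I → I → Subgroup Γ} (C : Com X)

include C

lemma com {k l k' l' : I} (h : k ≠ -l) (h' : k' ≠ -l') (hop : ¬ Opp k l k' l') {x y : Γ} (hx : x ∈ X k l) (hy : y ∈ X k' l') :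
    ⁅x, y⁆ ∈ gp X (SumP k l k' l') := by
  have key : ∀ {k l l' : I}, k ≠ -l → l ≠ l' → k ≠ -l' → ∀ {x y : Γ}, x ∈ X k l → y ∈ X (-l) l' →
      ⁅x, y⁆ ∈ gp X (SumP k l (-l) l') := by
    intro k l l' h h' hop x y hx hy
    have s1 : SumP k l (-l) l' k l' := ⟨hop, Or.inl fun m => by
      unfold cf
      have b1 : (-l = m) ↔ (l = -m) := by rw [neg_eq_iff_eq_neg]
      have b2 : (-l = -m) ↔ (l = m) := neg_inj
      simp only [b1, b2]; ring⟩
    by_cases hkl : k = l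
    · subst hkl
      have hy' : y ∈ X (-k) l' := hy
      refine (sup_le (X_le_gp hop s1) (X_le_gp (ne' C.ne l') ?_) : X k l' ⊔ X l' l' ≤ _) (C.c3 h' hop x hx y hy')
      refine ⟨ne' C.ne l', Or.inr (Or.inr (Or.inl fun m => ?_))⟩
      unfold cf
      have b1 : (-k = m) ↔ (k = -m) := by rw [neg_eq_iff_eq_neg]
      have b2 : (-k = -m) ↔ (k = m) := neg_inj
      simp only [b1, b2]; ring
    · by_cases hk : k = l'
      · subst hk
        exact X_le_gp hop s1 (C.c2 hkl h x hx y hy)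
      · by_cases hl : l' = -l
        · subst hl
          rw [← commutatorElement_inv]
          apply inv_mem
          have hx' : x ∈ X (-(-l)) k := by rw [neg_neg, C.Xs]; exact hx
          have h1 := C.c3 (i := -l) (j := k) (fun e => h e.symm) (fun e => hkl (neg_inj.1 e).symm) y hy x hx'
          refine (sup_le ?_ ?_ : X (-l) k ⊔ X k k ≤ _) h1
          · rw [C.Xs]; exact X_le_gp hop s1
          · refine X_le_gp (ne' C.ne k) ⟨ne' C.ne k, Or.inr (Or.inl fun m => ?_)⟩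
            unfold cf
            have b1 : (-l = m) ↔ (l = -m) := by rw [neg_eq_iff_eq_neg]
            have b2 : (-l = -m) ↔ (l = m) := neg_inj
            simp only [b1, b2]; ring
        · exact X_le_gp hop s1 (C.c1 hkl h h' (fun e => hl (by rw [e, neg_neg])) hk hop x hx y hy)
  have key2 : ∀ {k l k' l' : I}, k ≠ -l → k' ≠ -l' → ¬ Opp k l k' l' → k' = -l → ∀ {x y : Γ}, x ∈ X k l → y ∈ X k' l' →
      ⁅x, y⁆ ∈ gp X (SumP k l k' l') := by
    intro k l k' l' h h' hop e x y hx hy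
    subst e
    refine key h (fun e => h' (by rw [e])) (fun e => hop (Or.inr ⟨rfl, by rw [e, neg_neg]⟩)) hx hy
  have sc1 : ∀ k l k' l', SumP (I := I) l k k' l' = SumP k l k' l' := by
    intro k l k' l'; funext p q; unfold SumP; simp only [cf_comm l k, eq_comm (a := l) (b := k)]
  have sc2 : ∀ k l k' l', SumP (I := I) k l l' k' = SumP k l k' l' := by
    intro k l k' l'; funext p q; unfold SumP; simp only [cf_comm l' k', eq_comm (a := l') (b := k')]
  by_cases e1 : k' = -l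
  · exact key2 h h' hop e1 hx hy
  by_cases e2 : k' = -k
  · rw [← sc1]
    rw [C.Xs] at hx
    exact key2 (fun e => h (by rw [e, neg_neg])) h' (fun e => hop (Or.symm e)) e2 hx hy
  by_cases e3 : l' = -l
  · rw [← sc2]
    rw [C.Xs k' l'] at hy
    refine key2 h (fun e => h' (by rw [e, neg_neg])) (fun e => hop ?_) e3 hx hy
    rcases e with e | e
    · exact Or.inr ⟨e.2, e.1⟩
    · exact Or.inl ⟨e.2, e.1⟩
  by_cases e4 : l' = -k
  · rw [← sc1, ← sc2]
    rw [C.Xs] at hx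
    rw [C.Xs k' l'] at hy
    refine key2 (fun e => h (by rw [e, neg_neg])) (fun e => h' (by rw [e, neg_neg])) (fun e => hop ?_) e4 hx hy
    rcases e with e | e
    · exact Or.inl ⟨e.2, e.1⟩
    · exact Or.inr ⟨e.2, e.1⟩
  by_cases e5 : k = l ∧ k' = l'
  · obtain ⟨rfl, rfl⟩ := e5
    have s1 : SumP k k k' k' k k' := ⟨fun e => e1 (by rw [e, neg_neg]), Or.inr (Or.inr (Or.inr ⟨rfl, rfl, fun m => by unfold cf; ring⟩))⟩
    by_cases e6 : k = k'
    · subst e6
      exact X_le_gp s1.1 s1 (by rw [commutatorElement_def]; exact mul_mem (mul_mem (mul_mem hx hy) (inv_mem hx)) (inv_mem hy))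
    · exact X_le_gp s1.1 s1 (C.c5 e6 s1.1 x hx y hy)
  · rw [C.c4 h h' e2 e1 e4 e3 e5 x hx y hy]
    exact one_mem _

/-- normalization of groups generated by root groups -/
lemma normP {P Q : I → I → Prop} (h : ∀ k l, k ≠ -l → P k l → ∀ k' l', k' ≠ -l' → Q k' l' →
    ¬ Opp k l k' l' ∧ ∀ p q, SumP k l k' l' p q → Q p q) : ∀ x ∈ gp X P, ∀ y ∈ gp X Q, x * y * x⁻¹ ∈ gp X Q := by
  refine norm_gp fun k l hkl hP k' l' hkl' hQ x hx y hy => ?_
  obtain ⟨h1, h2⟩ := h k l hkl hP k' l' hkl' hQ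
  have e : x * y * x⁻¹ = ⁅x, y⁆ * y := by rw [commutatorElement_def]; group
  rw [e]
  exact mul_mem (gp_mono (fun p q _ => h2 p q) (C.com hkl hkl' h1 hx hy)) (X_le_gp hkl' hQ hy)

end Com

namespace Cls

variable {X : I → I → Subgroup Γ} {M : I → I → Set Γ} (C : Cls X M)

include C

/-- conjugation by the elements of `M` -/
lemma M_gp_conj {i j : I} (hij : i ≠ -j) {m : Γ} (hm : m ∈ M i j) {P Q : I → I → Prop}
    (h : ∀ k l, k ≠ -l → P k l → Q (rf i j k) (rf i j l)) : ∀ x ∈ gp X P, m * x * m⁻¹ ∈ gp X Q := by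
  have : gp X P ≤ (gp X Q).comap (MulAut.conj m).toMonoidHom := gp_le fun k l hkl hP y hy => by
    rw [mem_comap]
    exact X_le_gp (rf_ne_neg C.ne hij hkl) (h k l hkl hP) (C.M_X i j hij k l hkl m hm y hy)
  exact fun x hx => this hx

/-- the torus -/
def T (_ : Cls X M) : Subgroup Γ := closure {g | ∃ i j, i ≠ -j ∧ ∃ m ∈ M i j, ∃ m' ∈ M i j, g = m * m'}

lemma mul_mem_T {i j : I} (hij : i ≠ -j) {m m' : Γ} (h : m ∈ M i j) (h' : m' ∈ M i j) : m * m' ∈ C.T :=
  subset_closure ⟨i, j, hij, m, h, m', h', rfl⟩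

lemma T_X {k l : I} (hkl : k ≠ -l) {t : Γ} (ht : t ∈ C.T) : ∀ x ∈ X k l, t * x * t⁻¹ ∈ X k l := by
  unfold T at ht
  have h1 : ∀ i j, i ≠ -j → ∀ m ∈ M i j, ∀ m' ∈ M i j, ∀ x ∈ X k l, (m * m') * x * (m * m')⁻¹ ∈ X k l := by
    intro i j hij m hm m' hm' x hx
    have a1 := C.M_X i j hij k l hkl m' hm' x hx
    have a2 := C.M_X i j hij _ _ (rf_ne_neg C.ne hij hkl) m hm _ a1
    rw [rf_rf C.ne _ _ _ hij, rf_rf C.ne _ _ _ hij] at a2
    have e : (m * m') * x * (m * m')⁻¹ = m * (m' * x * m'⁻¹) * m⁻¹ := by group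
    rw [e]; exact a2
  have key : (∀ x ∈ X k l, t * x * t⁻¹ ∈ X k l) ∧ (∀ x ∈ X k l, t⁻¹ * x * t ∈ X k l) := by
    induction ht using closure_induction with
    | mem t ht =>
      obtain ⟨i, j, hij, m, hm, m', hm', rfl⟩ := ht
      refine ⟨h1 i j hij m hm m' hm', fun x hx => ?_⟩
      have := h1 i j hij m'⁻¹ (C.M_inv i j hij _ hm') m⁻¹ (C.M_inv i j hij _ hm) x hx
      simpa [mul_assoc] using this
    | one => simp
    | mul a b _ _ ha hb =>
      refine ⟨fun z hz => ?_, fun z hz => ?_⟩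
      · have := ha.1 _ (hb.1 z hz)
        simpa [mul_assoc] using this
      · have := hb.2 _ (ha.2 z hz)
        simpa [mul_assoc] using this
    | inv a _ ha => exact ⟨fun z hz => by rw [inv_inv]; exact ha.2 z hz, fun z hz => by rw [inv_inv]; exact ha.1 z hz⟩
  exact key.1

lemma T_gp {P : I → I → Prop} {t : Γ} (ht : t ∈ C.T) : ∀ x ∈ gp X P, t * x * t⁻¹ ∈ gp X P := by
  have : gp X P ≤ (gp X P).comap (MulAut.conj t).toMonoidHom := gp_le fun k l hkl hP y hy => by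
    rw [mem_comap]
    exact X_le_gp hkl hP (C.T_X hkl ht y hy)
  exact fun x hx => this hx

lemma M_T {i j : I} (hij : i ≠ -j) {m : Γ} (hm : m ∈ M i j) : ∀ t ∈ C.T, m * t * m⁻¹ ∈ C.T := by
  have : C.T ≤ C.T.comap (MulAut.conj m).toMonoidHom := by
    nth_rewrite 1 [T]
    rw [closure_le]
    rintro _ ⟨k, l, hkl, a, ha, b, hb, rfl⟩
    rw [SetLike.mem_coe, mem_comap]
    have h1 := C.mul_mem_T (rf_ne_neg C.ne hij hkl) (C.M_M i j hij k l hkl m hm a ha) (C.M_M i j hij k l hkl m hm b hb)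
    have e : (MulAut.conj m).toMonoidHom (a * b) = m * a * m⁻¹ * (m * b * m⁻¹) := by
      simp [MulAut.conj_apply, mul_assoc]
    rw [e]; exact h1
  exact fun x hx => this hx

lemma M_T' {i j : I} (hij : i ≠ -j) {m : Γ} (hm : m ∈ M i j) : ∀ t ∈ C.T, m⁻¹ * t * m ∈ C.T := by
  intro t ht
  have := C.M_T hij (C.M_inv i j hij m hm) t ht
  rwa [inv_inv] at this

end Cls

section lem2

variable (ne : ∀ i : I, -i ≠ i)

include ne

lemma rf_eq {a b : I} (hab : a ≠ b) : rf a (-b) a = b := by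
  unfold rf; simp

lemma rf_eq' {a b : I} (hab : a ≠ b) : rf a (-b) b = a := by
  unfold rf
  rw [if_neg (Ne.symm hab), if_neg (ne' ne b)]
  by_cases h : b = -a
  · rw [if_pos h, h, neg_neg]
  · rw [if_neg h, if_pos (neg_neg b).symm]

omit ne in
lemma rf_of_ne {i j k : I} (h1 : k ≠ i) (h2 : k ≠ j) (h3 : k ≠ -i) (h4 : k ≠ -j) : rf i j k = k := by
  unfold rf; simp [h1, h2, h3, h4]

lemma rf_fix {k l o : I} (hkl : k ≠ -l) (h : rf k l o = o) : cf k l o = 0 := by
  rcases cf_cases ne hkl o with h1 | h1 | h1 | h1 | h1 | h1 | h1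
  · obtain ⟨-, rfl, rfl⟩ := h1
    exfalso; unfold rf at h; simp at h; exact ne _ h
  · obtain ⟨-, rfl, rfl⟩ := h1
    exfalso
    rw [← neg_inj, ← rf_neg ne _ _ _ hkl] at h
    unfold rf at h; simp at h; exact ne _ h.symm
  · obtain ⟨-, rfl, h2, h3⟩ := h1
    exfalso; unfold rf at h; simp at h; exact h3 (neg_eq_iff_eq_neg.1 h)
  · obtain ⟨-, rfl, h2, h3⟩ := h1
    exfalso; rw [rf_comm _ _ _ hkl] at h; unfold rf at h; simp at h; exact h3 (neg_eq_iff_eq_neg.1 h)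
  · obtain ⟨-, rfl, h2, h3⟩ := h1
    exfalso
    rw [← neg_inj, ← rf_neg ne _ _ _ hkl] at h
    unfold rf at h; simp at h; exact h2 h
  · obtain ⟨-, rfl, h2, h3⟩ := h1
    exfalso
    rw [← neg_inj, ← rf_neg ne _ _ _ hkl, rf_comm _ _ _ hkl] at h
    unfold rf at h; simp at h; exact h2 h
  · exact h1.1

lemma rf_move {k l o : I} (hkl : k ≠ -l) (h : rf k l o ≠ o) :
    (rf k l o = -l ∧ o = k) ∨ (rf k l o = -k ∧ o = l) ∨ (rf k l o = l ∧ o = -k) ∨ (rf k l o = k ∧ o = -l) := by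
  by_cases h1 : o = k
  · subst h1; left; exact ⟨by unfold rf; simp, rfl⟩
  by_cases h2 : o = l
  · subst h2; right; left; exact ⟨by rw [rf_comm _ _ _ hkl]; unfold rf; simp, rfl⟩
  by_cases h3 : o = -k
  · subst h3; right; right; left
    refine ⟨?_, rfl⟩
    rw [rf_neg ne _ _ _ hkl]; unfold rf; simp
  by_cases h4 : o = -l
  · subst h4; right; right; right
    refine ⟨?_, rfl⟩
    rw [rf_neg ne _ _ _ hkl, rf_comm _ _ _ hkl]; unfold rf; simp
  exact absurd (rf_of_ne h1 h2 h3 h4) h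

/-- the indices of a root occurring in a commutator -/
lemma SumP.mem {J : Finset I} (hJ : ∀ k ∈ J, -k ∈ J) {k l k' l' p q : I} (h : SumP k l k' l' p q) (hk : k ∈ J) (hl : l ∈ J)
    (hk' : k' ∈ J) (hl' : l' ∈ J) : p ∈ J ∧ q ∈ J := by
  have z : ∀ {a b x : I}, a ∈ J → b ∈ J → x ∉ J → cf a b x = 0 := by
    intro a b x ha hb hx
    have h1 : a ≠ x := fun e => hx (e ▸ ha)
    have h2 : b ≠ x := fun e => hx (e ▸ hb)
    have h3 : a ≠ -x := fun e => hx (by have := hJ _ ha; rwa [e, neg_neg] at this)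
    have h4 : b ≠ -x := fun e => hx (by have := hJ _ hb; rwa [e, neg_neg] at this)
    unfold cf; simp [h1, h2, h3, h4]
  have pos1 : cf p q p ≠ 0 := by
    intro h0
    rcases cf_cases ne h.1 p with h1 | h1 | h1 | h1 | h1 | h1 | h1
    · omega
    · omega
    · omega
    · omega
    · omega
    · omega
    · exact h1.2.1 rfl
  have pos2 : cf p q q ≠ 0 := by
    intro h0
    rcases cf_cases ne h.1 q with h1 | h1 | h1 | h1 | h1 | h1 | h1
    · omega
    · omega
    · omega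
    · omega
    · omega
    · omega
    · exact h1.2.2.2.1 rfl
  refine ⟨?_, ?_⟩
  · by_contra hp
    have a1 := z hk hl hp
    have a2 := z hk' hl' hp
    rcases h.2 with h | h | h | h
    · have := h p; omega
    · have := h p; omega
    · have := h p; omega
    · have := h.2.2 p; omega
  · by_contra hp
    have a1 := z hk hl hp
    have a2 := z hk' hl' hp
    rcases h.2 with h | h | h | h
    · have := h q; omega
    · have := h q; omega
    · have := h q; omega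
    · have := h.2.2 q; omega

lemma Opp.cf {k l k' l' : I} (h : Opp k l k' l') (m : I) : Cfsg.Agent.Stb.cf k' l' m = - Cfsg.Agent.Stb.cf k l m := by
  have b1 : ∀ a : I, (-a = m) ↔ (a = -m) := fun a => neg_eq_iff_eq_neg
  have b2 : ∀ a : I, (-a = -m) ↔ (a = m) := fun a => neg_inj
  rcases h with ⟨rfl, rfl⟩ | ⟨rfl, rfl⟩
  · unfold Cfsg.Agent.Stb.cf; simp only [b1, b2]; ring
  · unfold Cfsg.Agent.Stb.cf; simp only [b1, b2]; ring

end lem2

lemma cf_bd' (ne : ∀ i : I, -i ≠ i) (k l : I) {i j : I} (h1 : i ≠ j) (h2 : i ≠ -j) :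
    cf k l i + cf k l j ≤ 2 ∧ cf k l i - cf k l j ≤ 2 ∧ -cf k l i + cf k l j ≤ 2 ∧ -cf k l i - cf k l j ≤ 2 := by
  have h := cf_bd ne k l h1 h2
  have a1 := le_abs_self (cf k l i)
  have a2 := neg_le_abs (cf k l i)
  have a3 := le_abs_self (cf k l j)
  have a4 := neg_le_abs (cf k l j)
  refine ⟨?_, ?_, ?_, ?_⟩ <;> linarith

lemma cf_self (ne : ∀ i : I, -i ≠ i) {i j : I} (h1 : j ≠ i) (h2 : j ≠ -i) : cf j (-i) i = -1 ∧ cf j (-i) j = 1 ∧
    cf i (-j) i = 1 ∧ cf i (-j) j = -1 := by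
  have a1 := ne i
  have a2 := ne j
  have a3 : -i ≠ j := fun e => h2 e.symm
  have a4 : -j ≠ i := fun e => h2 (by rw [← e, neg_neg])
  have a5 : i ≠ -j := fun e => a4 e.symm
  refine ⟨?_, ?_, ?_, ?_⟩
  · unfold cf; simp [h1, h2, a1]
  · unfold cf; simp [a3, ne' ne j, Ne.symm h1]
  · unfold cf; simp [a4, ne' ne i, h1]
  · unfold cf; simp [a5, Ne.symm h1, a2]

lemma cf_lt (ne : ∀ i : I, -i ≠ i) {k l i : I} (hkl : k ≠ -l) (h : cf k l i < 0) : k = -i ∨ l = -i := by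
  rcases cf_cases ne hkl i with e | e | e | e | e | e | e
  · omega
  · exact Or.inl e.2.1
  · omega
  · omega
  · exact Or.inl e.2.1
  · exact Or.inr e.2.1
  · omega

lemma cf_gt (ne : ∀ i : I, -i ≠ i) {k l i : I} (hkl : k ≠ -l) (h : 0 < cf k l i) : k = i ∨ l = i := by
  rcases cf_cases ne hkl i with e | e | e | e | e | e | e
  · exact Or.inl e.2.1
  · omega
  · exact Or.inl e.2.1
  · exact Or.inr e.2.1
  · omega
  · omega
  · omega

lemma cf_pm (ne : ∀ i : I, -i ≠ i) {k l i j : I} (hkl : k ≠ -l) (h2 : j ≠ -i) (h : cf k l i < 0) (h' : 0 < cf k l j) :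
    (k = -i ∧ l = j) ∨ (k = j ∧ l = -i) := by
  rcases cf_lt ne hkl h with e | e <;> rcases cf_gt ne hkl h' with f | f
  · exact absurd (f.symm.trans e) h2
  · exact Or.inl ⟨e, f⟩
  · exact Or.inr ⟨f, e⟩
  · exact absurd (f.symm.trans e) h2

/-- predicates -/
def Yp (J : Finset I) (i : I) (k l : I) : Prop := k ∈ J ∧ l ∈ J ∧ cf k l i < 0
/-- predicates -/
def Yh (J : Finset I) (i j : I) (k l : I) : Prop := k ∈ J ∧ l ∈ J ∧ cf k l i < 0 ∧ (cf k l i = -2 ∨ cf k l j ≤ 0)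
/-- predicates -/
def Lp (J : Finset I) (i j : I) (k l : I) : Prop := k ∈ J ∧ l ∈ J ∧ cf k l i = 0 ∧ cf k l j < 0

namespace Com

variable {X : I → I → Subgroup Γ} (C : Com X) {J : Finset I} (hJ : ∀ k ∈ J, -k ∈ J)

include C hJ in
/-- the product decomposition -/
lemma split_S {i j : I} (h1 : j ≠ i) (h2 : j ≠ -i) {y : Γ} (hy : y ∈ gp X (fun k l => Yh J i j k l ∨ Lp J i j k l)) :
    ∃ t ∈ gp X (Yh J i j), ∃ l ∈ gp X (Lp J i j), y = t * l := by
  have ne := C.ne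
  have hij : i ≠ -j := fun e => h2 (by rw [e, neg_neg])
  have hle : gp X (fun k l => Yh J i j k l ∨ Lp J i j k l) ≤ gp X (Lp J i j) ⊔ gp X (Yh J i j) := by
    refine gp_le fun k l hkl h => ?_
    rcases h with h | h
    · exact (X_le_gp hkl h).trans le_sup_right
    · exact (X_le_gp hkl h).trans le_sup_left
  refine Cfsg.Agent.ChevGrp.mem_sup_of_normalizes' ?_ (hle hy)
  refine C.normP ?_
  rintro k l hkl ⟨hk, hl, a1, a2⟩ k' l' hkl' ⟨hk', hl', b1, b2⟩
  refine ⟨fun hop => ?_, fun p q hpq => ?_⟩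
  · have e1 := Opp.cf ne hop i
    omega
  · obtain ⟨hp1, hp2⟩ := SumP.mem ne hJ hpq hk hl hk' hl'
    have d1 := cf_bd' ne p q h1.symm hij
    have d2 := cf_bd' ne k' l' h1.symm hij
    refine ⟨hp1, hp2, ?_⟩
    rcases hpq.2 with e | e | e | ⟨-, -, e⟩
    all_goals
      have e1 := e i
      have e2 := e j
      omega

include C hJ in
/-- moving an element of `X i (-j)` through a column element without `j`-coordinate -/
lemma pass {i j : I} (hi : i ∈ J) (hj : j ∈ J) (h1 : j ≠ i) (h2 : j ≠ -i) {b : Γ} (hb' : b ∈ X i (-j)) {t0 : Γ}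
    (ht0 : t0 ∈ gp X (Yh J i j)) : ∃ t1 ∈ gp X (Yh J i j), ∃ l1 ∈ gp X (Lp J i j), b * t0 = t1 * l1 * b := by
  have ne := C.ne
  have hij : i ≠ -j := fun e => h2 (by rw [e, neg_neg])
  obtain ⟨c1, c2, c3, c4⟩ := cf_self ne h1 h2
  have hj' := hJ j hj
  have hbt : b * t0 * b⁻¹ ∈ gp X (fun k l => Yh J i j k l ∨ Lp J i j k l) := by
    refine C.normP (P := fun k l => k = i ∧ l = -j) ?_ b (X_le_gp (by rw [neg_neg]; exact h1.symm) ⟨rfl, rfl⟩ hb') t0
      ((gp_mono fun k l _ h => Or.inl h) ht0)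
    rintro k l hkl ⟨rfl, rfl⟩ k' l' hkl' hQ
    have hQJ : k' ∈ J ∧ l' ∈ J := by rcases hQ with h | h <;> exact ⟨h.1, h.2.1⟩
    refine ⟨fun hop => ?_, fun p q hpq => ?_⟩
    · have e1 := Opp.cf ne hop k
      have e2 := Opp.cf ne hop j
      rcases hQ with ⟨-, -, q1, q2⟩ | ⟨-, -, q1, q2⟩ <;> omega
    · obtain ⟨hp1, hp2⟩ := SumP.mem ne hJ hpq hi hj' hQJ.1 hQJ.2
      have b1 := cf_bd' ne p q h1.symm hij
      have b2 := cf_bd' ne k' l' h1.symm hij
      rcases hpq.2 with e | e | e | ⟨-, -, e⟩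
      all_goals
        have e1 := e k
        have e2 := e j
        rcases hQ with ⟨-, -, q1, q2⟩ | ⟨-, -, q1, q2⟩
      all_goals
        by_cases hz : cf p q k = 0
        · right; exact ⟨hp1, hp2, hz, by omega⟩
        · left; exact ⟨hp1, hp2, by omega, by omega⟩
  obtain ⟨t1, ht1, l1, hl1, he⟩ := C.split_S hJ h1 h2 hbt
  exact ⟨t1, ht1, l1, hl1, by rw [← he]; group⟩

include C hJ in
/-- splitting off one coordinate -/
lemma split_Y {i j : I} (hi : i ∈ J) (hj : j ∈ J) (h1 : j ≠ i) (h2 : j ≠ -i) {t : Γ} (ht : t ∈ gp X (Yp J i)) :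
    ∃ x ∈ X j (-i), ∃ t0 ∈ gp X (Yh J i j), t = x * t0 := by
  have ne := C.ne
  have hij : i ≠ -j := fun e => h2 (by rw [e, neg_neg])
  have hji : j ≠ - -i := by rw [neg_neg]; exact h1
  obtain ⟨c1, c2, c3, c4⟩ := cf_self ne h1 h2
  have hle : gp X (Yp J i) ≤ X j (-i) ⊔ gp X (Yh J i j) := by
    refine gp_le fun k l hkl ⟨hk, hl, h⟩ => ?_
    by_cases h3 : cf k l i = -2 ∨ cf k l j ≤ 0
    · exact (X_le_gp hkl ⟨hk, hl, h, h3⟩).trans le_sup_right
    · push Not at h3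
      refine le_trans ?_ le_sup_left
      rcases cf_pm ne hkl h2 h h3.2 with ⟨e, f⟩ | ⟨e, f⟩
      · rw [e, f, C.Xs]
      · rw [e, f]
  suffices hnorm : ∀ a ∈ X j (-i), ∀ c ∈ gp X (Yh J i j), a * c * a⁻¹ ∈ gp X (Yh J i j) from
    Cfsg.Agent.ChevGrp.mem_sup_of_normalizes hnorm (hle ht)
  intro x hx
  refine C.normP (P := fun k l => k = j ∧ l = -i) ?_ x (X_le_gp hji ⟨rfl, rfl⟩ hx)
  rintro k l hkl ⟨rfl, rfl⟩ k' l' hkl' ⟨hk', hl', b1, b2⟩
  refine ⟨fun hop => ?_, fun p q hpq => ?_⟩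
  · have e1 := Opp.cf ne hop i
    omega
  · obtain ⟨hp1, hp2⟩ := SumP.mem ne hJ hpq hj (hJ i hi) hk' hl'
    have d1 := cf_bd' ne p q h1.symm hij
    have d2 := cf_bd' ne k' l' h1.symm hij
    rcases hpq.2 with e | e | e | ⟨-, -, e⟩
    all_goals
      have e1 := e i
      have e2 := e k
      refine ⟨hp1, hp2, by omega, by omega⟩

/-- predicate for the dichotomy -/
def YS (J : Finset I) (i : I) (S : Finset I) (k l : I) : Prop :=
  k ∈ J ∧ l ∈ J ∧ (cf k l i = -2 ∨ (cf k l i = -1 ∧ (k ∈ S ∨ l ∈ S)))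

include C hJ in
lemma dich_aux {i : I} (hi : i ∈ J) (S : Finset I) : (∀ s ∈ S, s ∈ J ∧ s ≠ i ∧ s ≠ -i) → ∀ t ∈ gp X (YS J i S),
    t ∈ X (-i) (-i) ∨ ∃ j ∈ S, ∃ x ∈ X j (-i), x ≠ 1 ∧ ∃ t0 ∈ gp X (Yh J i j), t = x * t0 := by
  have ne := C.ne
  induction S using Finset.induction_on with
  | empty =>
    intro _ t ht
    left
    have : gp X (YS J i ∅) ≤ X (-i) (-i) := by
      refine gp_le fun k l hkl ⟨_, _, h⟩ => ?_
      rcases h with h | h
      · rcases cf_cases ne hkl i with e | e | e | e | e | e | e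
        · omega
        · rw [e.2.1, e.2.2]
        all_goals omega
      · simp at h
    exact this ht
  | insert j S hjS ih =>
    intro hS t ht
    obtain ⟨hj, h1, h2⟩ := hS j (Finset.mem_insert_self _ _)
    have ih' := ih fun s hs => hS s (Finset.mem_insert_of_mem hs)
    have hij : i ≠ -j := fun e => h2 (by rw [e, neg_neg])
    have hji : j ≠ - -i := by rw [neg_neg]; exact h1
    obtain ⟨c1, c2, c3, c4⟩ := cf_self ne h1 h2
    have hle : gp X (YS J i (insert j S)) ≤ X j (-i) ⊔ gp X (YS J i S) := by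
      refine gp_le fun k l hkl ⟨hk, hl, h⟩ => ?_
      rcases h with h | ⟨h, h3⟩
      · exact (X_le_gp hkl ⟨hk, hl, Or.inl h⟩).trans le_sup_right
      · by_cases h4 : k ∈ S ∨ l ∈ S
        · exact (X_le_gp hkl ⟨hk, hl, Or.inr ⟨h, h4⟩⟩).trans le_sup_right
        · push Not at h4
          refine le_trans ?_ le_sup_left
          rw [Finset.mem_insert, Finset.mem_insert] at h3
          have h5 : k = j ∨ l = j := by tauto
          rcases cf_lt ne hkl (i := i) (by omega) with e | e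
          · rcases h5 with h5 | h5
            · exact absurd (h5.symm.trans e) h2
            · rw [e, h5, C.Xs]
          · rcases h5 with h5 | h5
            · rw [e, h5]
            · exact absurd (h5.symm.trans e) h2
    suffices hnorm : ∀ a ∈ X j (-i), ∀ c ∈ gp X (YS J i S), a * c * a⁻¹ ∈ gp X (YS J i S) by
      obtain ⟨x, hx, c, hc, he⟩ := Cfsg.Agent.ChevGrp.mem_sup_of_normalizes hnorm (hle ht)
      by_cases hx1 : x = 1
      · rw [hx1, one_mul] at he
        subst he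
        rcases ih' t hc with h | ⟨j', hj', h⟩
        · exact Or.inl h
        · exact Or.inr ⟨j', Finset.mem_insert_of_mem hj', h⟩
      · right
        refine ⟨j, Finset.mem_insert_self _ _, x, hx, hx1, c, ?_, he⟩
        refine gp_mono ?_ hc
        rintro k l hkl ⟨hk, hl, h⟩
        rcases h with h | ⟨h, h3⟩
        · exact ⟨hk, hl, by omega, Or.inl h⟩
        · refine ⟨hk, hl, by omega, Or.inr ?_⟩
          by_contra hcon
          rcases cf_pm ne hkl h2 (i := i) (j := j) (by omega) (by omega) with ⟨e, f⟩ | ⟨e, f⟩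
          · rcases h3 with h3 | h3
            · rw [e] at h3; exact (hS _ (Finset.mem_insert_of_mem h3)).2.2 rfl
            · rw [f] at h3; exact hjS h3
          · rcases h3 with h3 | h3
            · rw [e] at h3; exact hjS h3
            · rw [f] at h3; exact (hS _ (Finset.mem_insert_of_mem h3)).2.2 rfl
    · intro x hx
      refine C.normP (P := fun k l => k = j ∧ l = -i) ?_ x (X_le_gp hji ⟨rfl, rfl⟩ hx)
      rintro k l hkl ⟨rfl, rfl⟩ k' l' hkl' ⟨hk', hl', b2⟩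
      refine ⟨fun hop => ?_, fun p q hpq => ?_⟩
      · have e1 := Opp.cf ne hop i
        omega
      · obtain ⟨hp1, hp2⟩ := SumP.mem ne hJ hpq hj (hJ i hi) hk' hl'
        have d1 := cf_bd' ne p q h1.symm hij
        have d2 := cf_bd' ne k' l' h1.symm hij
        rcases hpq.2 with e | e | e | ⟨e0, -, e⟩
        · have e1 := e i
          have e2 := e k
          exact ⟨hp1, hp2, Or.inl (by omega)⟩
        · have e1 := e i
          have e2 := e k
          exact ⟨hp1, hp2, Or.inl (by omega)⟩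
        · have e1 := e i
          have e2 := e k
          exact ⟨hp1, hp2, Or.inl (by omega)⟩
        · exact absurd e0 h2

include C hJ in
lemma dich {i : I} (hi : i ∈ J) {t : Γ} (ht : t ∈ gp X (Yp J i)) :
    t ∈ X (-i) (-i) ∨ ∃ j ∈ J, j ≠ i ∧ j ≠ -i ∧ ∃ x ∈ X j (-i), x ≠ 1 ∧ ∃ t0 ∈ gp X (Yh J i j), t = x * t0 := by
  have ne := C.ne
  suffices hS : t ∈ gp X (YS J i (J.filter fun s => s ≠ i ∧ s ≠ -i)) by
    rcases C.dich_aux hJ hi (J.filter fun s => s ≠ i ∧ s ≠ -i) (fun s hs => by simpa using hs) t hS with h | ⟨j, hj, h⟩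
    · exact Or.inl h
    · rw [Finset.mem_filter] at hj
      exact Or.inr ⟨j, hj.1, hj.2.1, hj.2.2, h⟩
  · refine gp_mono ?_ ht
    rintro k l hkl ⟨hk, hl, h⟩
    refine ⟨hk, hl, ?_⟩
    simp only [Finset.mem_filter]
    rcases cf_cases ne hkl i with e | e | e | e | e | e | e
    · omega
    · exact Or.inl e.1
    · omega
    · omega
    · exact Or.inr ⟨e.1, Or.inr ⟨hl, e.2.2.1, e.2.2.2⟩⟩
    · exact Or.inr ⟨e.1, Or.inl ⟨hk, e.2.2.1, e.2.2.2⟩⟩
    · omega

end Com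

namespace Cls

variable {X : I → I → Subgroup Γ} {M : I → I → Set Γ} (C : Cls X M) {J : Finset I} (hJ : ∀ k ∈ J, -k ∈ J)

/-- representatives of the Weyl group cosets: elements moving `o` to `i` -/
def NN (C : Cls X M) (i o : I) : Set Γ := {m | (i = o ∧ m ∈ C.T) ∨ (i ≠ o ∧ m ∈ M i (-o))}

/-- the parabolic subgroup -/
def Par (C : Cls X M) (J : Finset I) (o : I) : Subgroup Γ := gp X (fun k l => k ∈ J ∧ l ∈ J ∧ 0 ≤ cf k l o) ⊔ C.T

lemma M_Par {k l o : I} (hk : k ∈ J) (hl : l ∈ J) (hkl : k ≠ -l) (h0 : cf k l o = 0) (hJ : ∀ k ∈ J, -k ∈ J) {m : Γ}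
    (hm : m ∈ M k l) : m ∈ C.Par J o := by
  have h1 : cf (-k) (-l) o = 0 := by
    have := Opp.cf C.ne (k := k) (l := l) (Or.inl ⟨rfl, rfl⟩) o
    rw [this, h0, neg_zero]
  refine (sup_le ?_ ?_ : X k l ⊔ X (-k) (-l) ≤ _) (C.M_gp k l hkl m hm)
  · exact (X_le_gp (P := fun k l => k ∈ J ∧ l ∈ J ∧ 0 ≤ cf k l o) hkl ⟨hk, hl, h0.ge⟩).trans le_sup_left
  · exact (X_le_gp (P := fun k l => k ∈ J ∧ l ∈ J ∧ 0 ≤ cf k l o) (fun e => hkl (neg_inj.1 e)) ⟨hJ k hk, hJ l hl, h1.ge⟩).trans le_sup_left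

include hJ in
lemma coset {k l i o : I} (hk : k ∈ J) (hl : l ∈ J) (hi : i ∈ J) (ho : o ∈ J) (hkl : k ≠ -l) {m : Γ} (hm : m ∈ M k l)
    {n : Γ} (hn : n ∈ C.NN i o) : ∃ n' ∈ C.NN (rf k l i) o, ∃ p ∈ C.Par J o, m * n = n' * p := by
  have ne := C.ne
  have hTP : C.T ≤ C.Par J o := le_sup_right
  by_cases h1 : rf k l o = o
  · -- the reflection fixes `o`
    have hmP : m ∈ C.Par J o := C.M_Par hk hl hkl (rf_fix ne hkl h1) hJ hm
    refine ⟨m * n * m⁻¹, ?_, m, hmP, by group⟩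
    rcases hn with ⟨rfl, hn⟩ | ⟨hio, hn⟩
    · left; exact ⟨h1, C.M_T hkl hm n hn⟩
    · right
      have hio' : i ≠ - -o := by rw [neg_neg]; exact hio
      refine ⟨fun e => hio ((rf_inj ne hkl).1 (e.trans h1.symm)), ?_⟩
      have := C.M_M k l hkl i (-o) hio' m hm n hn
      rwa [rf_neg ne _ _ _ hkl, h1] at this
  -- the reflection moves `o`
  have hM : M k l = M (rf k l o) (-o) := by
    rcases rf_move ne hkl h1 with ⟨h2, rfl⟩ | ⟨h2, rfl⟩ | ⟨h2, rfl⟩ | ⟨h2, rfl⟩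
    · rw [h2, C.Mn l o (fun e => hkl (by rw [e, neg_neg])), C.Ms]
    · rw [h2, C.Mn k o hkl]
    · rw [h2, neg_neg, C.Ms]
    · rw [h2, neg_neg]
  rcases hn with ⟨rfl, hn⟩ | ⟨hio, hn⟩
  · exact ⟨m, Or.inr ⟨h1, hM ▸ hm⟩, n, hTP hn, rfl⟩
  have hio' : i ≠ - -o := by rw [neg_neg]; exact hio
  have hn' : n⁻¹ ∈ M i (-o) := C.M_inv i (-o) hio' n hn
  have hconj : n⁻¹ * m * n ∈ M (rf i (-o) k) (rf i (-o) l) := by
    have := C.M_M i (-o) hio' k l hkl n⁻¹ hn' m hm
    rwa [inv_inv] at this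
  by_cases h2 : rf k l i = i
  · rw [h2]
    refine ⟨n, Or.inr ⟨hio, hn⟩, n⁻¹ * m * n, ?_, by group⟩
    have h3 : cf (rf i (-o) k) (rf i (-o) l) o = 0 := by
      have := cf_rf ne hio' k l i
      rw [rf_eq ne hio, rf_fix ne hkl h2] at this
      exact this
    have hmem : ∀ x ∈ J, rf i (-o) x ∈ J := by
      intro x hx
      unfold rf
      split_ifs
      · rw [neg_neg]; exact ho
      · exact hJ _ hi
      · exact hJ _ ho
      · exact hi
      · exact hx
    exact C.M_Par (hmem k hk) (hmem l hl) (rf_ne_neg ne hio' hkl) h3 hJ hconj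
  by_cases h3 : rf k l o = i
  · have h4 : rf k l i = o := by rw [← h3, rf_rf ne _ _ _ hkl]
    rw [h4]
    rw [hM, h3] at hm
    exact ⟨m * n, Or.inl ⟨rfl, C.mul_mem_T hio' hm hn⟩, 1, one_mem _, (mul_one _).symm⟩
  by_cases h4 : i = -o
  · subst h4
    set a := rf k l o with ha
    have hao : a ≠ -o := h3
    have hm1 : m ∈ M a (-o) := hM ▸ hm
    have hao' : a ≠ - -o := by rw [neg_neg]; exact h1
    -- `m' = n⁻¹ m n ∈ M a o`
    have hm2 : n⁻¹ * m * n ∈ M a o := by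
      have := C.M_M (-o) (-o) hio' a (-o) hao' n⁻¹ hn' m hm1
      rw [inv_inv, rf_of_ne hao hao (by rw [neg_neg]; exact h1) (by rw [neg_neg]; exact h1)] at this
      have e : rf (-o) (-o) (-o) = o := by unfold rf; simp
      rwa [e] at this
    have h5 : rf k l (-o) = -a := by rw [rf_neg ne _ _ _ hkl]
    rw [h5]
    have hao2 : a ≠ - (- -o) := by rw [neg_neg]; exact hao
    refine ⟨n⁻¹ * m * n, Or.inr ⟨fun e => hao (by rw [← e, neg_neg]), ?_⟩, (n⁻¹ * m * n)⁻¹ * n * (n⁻¹ * m * n), ?_, by group⟩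
    · rw [C.Mn a o hao]; exact hm2
    · have hm3 := C.M_inv a o hao _ hm2
      have := C.M_M a o hao (-o) (-o) (by rw [neg_neg]; exact ne o) _ hm3 n hn
      rw [inv_inv] at this
      have e : rf a o (-o) = a := by
        rw [rf_neg ne _ _ _ hao, rf_comm _ _ _ hao]
        unfold rf; simp
      rw [e] at this
      have haJ : a ∈ J := by
        rw [ha]
        unfold rf
        split_ifs
        · exact hJ _ hl
        · exact hJ _ hk
        · exact hl
        · exact hk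
        · exact ho
      refine C.M_Par haJ haJ (ne' ne a) ?_ hJ this
      unfold cf; simp [h1, hao]
  · -- `rf k l o = -i`
    have h5 : rf k l o = -i := by
      rcases rf_move ne hkl h1 with ⟨a1, a2⟩ | ⟨a1, a2⟩ | ⟨a1, a2⟩ | ⟨a1, a2⟩ <;>
      rcases rf_move ne hkl h2 with ⟨b1, b2⟩ | ⟨b1, b2⟩ | ⟨b1, b2⟩ | ⟨b1, b2⟩
      · exact absurd (b2.trans a2.symm) hio
      · rw [a1, b2]
      · exact absurd (by rw [b2, a2]) h4
      · exact absurd (by rw [a1, b2]) h3
      · rw [a1, b2]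
      · exact absurd (b2.trans a2.symm) hio
      · exact absurd (by rw [a1, b2]) h3
      · exact absurd (by rw [b2, a2]) h4
      · exact absurd (by rw [b2, a2, neg_neg]) h4
      · exact absurd (by rw [a1, b2]) h3
      · exact absurd (b2.trans a2.symm) hio
      · rw [a1, b2, neg_neg]
      · exact absurd (by rw [a1, b2]) h3
      · exact absurd (by rw [b2, a2, neg_neg]) h4
      · rw [a1, b2, neg_neg]
      · exact absurd (b2.trans a2.symm) hio
    have h6 : rf k l i = -o := by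
      have := rf_rf ne k l o hkl
      rw [h5, rf_neg ne _ _ _ hkl] at this
      rw [← this, neg_neg]
    rw [h6]
    rw [h5] at hM
    have hm1 : m ∈ M i o := by
      rw [← C.Mn i o h4, ← hM]; exact hm
    obtain ⟨c, hc⟩ := C.M_ne i i (ne' ne i)
    have hi2 : i ≠ - i := ne' ne i
    have ho2 : o ≠ - o := ne' ne o
    have hoi : o ≠ i := Ne.symm hio
    have hoi' : o ≠ -i := fun e => h4 (by rw [e, neg_neg])
    have e1 : rf i i i = -i := by unfold rf; simp
    have e2 : rf i i (-o) = -o := by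
      refine rf_of_ne ?_ ?_ ?_ ?_
      · exact fun e => h4 e.symm
      · exact fun e => h4 e.symm
      · exact fun e => hoi (neg_inj.1 e)
      · exact fun e => hoi (neg_inj.1 e)
    have k1 : c * n * c⁻¹ ∈ M i o := by
      have := C.M_M i i hi2 i (-o) hio' c hc n hn
      rw [e1, e2, C.Mn i o h4] at this
      exact this
    have ht : m * (c * n * c⁻¹)⁻¹ ∈ C.T := C.mul_mem_T h4 hm1 (C.M_inv i o h4 _ k1)
    set t := m * (c * n * c⁻¹)⁻¹ with ht'
    have hd : n * c⁻¹ * n⁻¹ ∈ M o o := by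
      have := C.M_M i (-o) hio' i i hi2 n hn c⁻¹ (C.M_inv i i hi2 c hc)
      rwa [rf_eq ne hio] at this
    set d := n * c⁻¹ * n⁻¹ with hd'
    have hc' : d⁻¹ * c * d ∈ M i i := by
      have := C.M_M o o ho2 i i hi2 d⁻¹ (C.M_inv o o ho2 d hd) c hc
      rw [inv_inv, rf_of_ne hio hio h4 h4] at this
      exact this
    have ht2 : d⁻¹ * t * d ∈ C.T := C.M_T' ho2 hd t ht
    refine ⟨d, Or.inr ⟨ne o, ?_⟩, (d⁻¹ * t * d) * (d⁻¹ * c * d) * (n * n), ?_, ?_⟩
    · rw [C.Mn o o ho2]; exact hd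
    · refine mul_mem (mul_mem (hTP ht2) (C.M_Par hi hi hi2 ?_ hJ hc')) (hTP (C.mul_mem_T hio' hn hn))
      unfold cf; simp [hio, h4]
    · rw [ht', hd']; group

/-- the elements `t * n * p` -/
def XI (C : Cls X M) (J : Finset I) (o i : I) : Set Γ :=
  {g | ∃ t ∈ gp X (Yp J i), ∃ n ∈ C.NN i o, ∃ p ∈ C.Par J o, g = t * n * p}

include hJ in
lemma n_Par {i o : I} (hi : i ∈ J) (ho : o ∈ J) {n : Γ} (hn : n ∈ C.NN i o) {y : Γ}
    (hy : y ∈ gp X (fun k l => k ∈ J ∧ l ∈ J ∧ 0 ≤ cf k l i)) : n⁻¹ * y * n ∈ C.Par J o := by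
  rcases hn with ⟨rfl, hn⟩ | ⟨hio, hn⟩
  · have := C.T_gp (inv_mem hn) y hy
    rw [inv_inv] at this
    exact mem_sup_left this
  · have hio' : i ≠ - -o := by rw [neg_neg]; exact hio
    have hn' : n⁻¹ ∈ M i (-o) := C.M_inv i (-o) hio' n hn
    have := C.M_gp_conj hio' hn' (Q := fun k l => k ∈ J ∧ l ∈ J ∧ 0 ≤ cf k l o) ?_ y hy
    · rw [inv_inv] at this
      exact mem_sup_left this
    · intro k l _ h
      have hmem : ∀ x ∈ J, rf i (-o) x ∈ J := by
        intro x hx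
        unfold rf
        split_ifs
        · rw [neg_neg]; exact ho
        · exact hJ _ hi
        · exact hJ _ ho
        · exact hi
        · exact hx
      refine ⟨hmem k h.1, hmem l h.2.1, ?_⟩
      rw [cf_rf' C.ne hio', rf_eq' C.ne hio]
      exact h.2.2

omit C in
include hJ in
lemma rf_mem {a b x : I} (ha : a ∈ J) (hb : b ∈ J) (hx : x ∈ J) : rf a b x ∈ J := by
  unfold rf
  split_ifs
  · exact hJ _ hb
  · exact hJ _ ha
  · exact hb
  · exact ha
  · exact hx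

include hJ in
/-- switching to another coordinate -/
lemma switch {i j o : I} (hi : i ∈ J) (hj : j ∈ J) (ho : o ∈ J) (h1 : j ≠ i) (h2 : j ≠ -i) {x : Γ} (hx : x ∈ X j (-i))
    (hx1 : x ≠ 1) {t0 : Γ} (ht0 : t0 ∈ gp X (Yh J i j)) {n : Γ} (hn : n ∈ C.NN i o) {p : Γ} (hp : p ∈ C.Par J o) :
    x * t0 * n * p ∈ C.XI J o j := by
  have ne := C.ne
  have hji : j ≠ - -i := by rw [neg_neg]; exact h1
  have hij : i ≠ -j := fun e => h2 (by rw [e, neg_neg])
  obtain ⟨c1, c2, c3, c4⟩ := cf_self ne h1 h2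
  obtain ⟨a, ha, b, hb, m, hm, rfl⟩ := C.rank1 j (-i) hji x hx hx1
  rw [neg_neg] at ha hb
  -- move `b` through `t0`
  have hba : ∀ {z : Γ}, z ∈ X (-j) i → z ∈ X i (-j) := fun h => by rw [C.Xs]; exact h
  have hb' := hba hb
  have ha' := hba ha
  have hi' := hJ i hi
  have hj' := hJ j hj
  obtain ⟨t1, ht1, l1, hl1, he'⟩ := C.pass hJ hi hj h1 h2 hb' ht0
  -- the pieces
  have hnn := C.coset hJ hj hi' hi ho hji hm hn
  have e3 : rf j (-i) i = j := rf_eq' ne h1
  rw [e3] at hnn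
  obtain ⟨n', hn', p', hp', hmn⟩ := hnn
  have g1 : m * t1 * m⁻¹ ∈ gp X (Yp J j) := by
    refine C.M_gp_conj hji hm (P := Yh J i j) ?_ t1 ht1
    intro k l hkl h
    refine ⟨rf_mem hJ hj hi' h.1, rf_mem hJ hj hi' h.2.1, ?_⟩
    rw [cf_rf' ne hji, rf_eq ne h1]
    exact h.2.2.1
  have g2 : m * l1 * m⁻¹ ∈ gp X (fun k l => k ∈ J ∧ l ∈ J ∧ 0 ≤ cf k l j) := by
    refine C.M_gp_conj hji hm (P := Lp J i j) ?_ l1 hl1
    intro k l hkl h
    refine ⟨rf_mem hJ hj hi' h.1, rf_mem hJ hj hi' h.2.1, ?_⟩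
    rw [cf_rf' ne hji, rf_eq ne h1]
    exact h.2.2.1.ge
  have g3 : n'⁻¹ * (m * l1 * m⁻¹) * n' ∈ C.Par J o := C.n_Par hJ hj ho hn' g2
  have g4 : n⁻¹ * b * n ∈ C.Par J o := by
    refine C.n_Par hJ hi ho hn (X_le_gp (by rw [neg_neg]; exact h1.symm) ⟨hi, hj', ?_⟩ hb')
    rw [c3]; exact zero_le_one
  have g5 : a ∈ gp X (Yp J j) := X_le_gp (by rw [neg_neg]; exact h1.symm) ⟨hi, hj', by rw [c4]; norm_num⟩ ha'
  refine ⟨a * (m * t1 * m⁻¹), mul_mem g5 g1, n', hn', (n'⁻¹ * (m * l1 * m⁻¹) * n') * p' * (n⁻¹ * b * n) * p,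
    mul_mem (mul_mem (mul_mem g3 hp') g4) hp, ?_⟩
  calc a * m * b * t0 * n * p = a * m * (b * t0) * n * p := by group
    _ = a * (m * t1 * m⁻¹) * (m * l1 * m⁻¹) * (m * n) * (n⁻¹ * b * n) * p := by rw [he']; group
    _ = _ := by rw [hmn]; group

section closure

variable {o : I} (ho : o ∈ J)

lemma XI_neg {i k l : I} (hk : k ∈ J) (hl : l ∈ J) (hkl : k ≠ -l) (h : cf k l i < 0) {x : Γ} (hx : x ∈ X k l) {g : Γ}
    (hg : g ∈ C.XI J o i) : x * g ∈ C.XI J o i := by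
  obtain ⟨t, ht, n, hn, p, hp, rfl⟩ := hg
  exact ⟨x * t, mul_mem (X_le_gp hkl ⟨hk, hl, h⟩ hx) ht, n, hn, p, hp, by group⟩

include hJ ho in
lemma XI_zero {i k l : I} (hi : i ∈ J) (hk : k ∈ J) (hl : l ∈ J) (hkl : k ≠ -l) (h : cf k l i = 0) {x : Γ} (hx : x ∈ X k l)
    {g : Γ} (hg : g ∈ C.XI J o i) : x * g ∈ C.XI J o i := by
  obtain ⟨t, ht, n, hn, p, hp, rfl⟩ := hg
  have ne := C.ne
  have h1 : x * t * x⁻¹ ∈ gp X (Yp J i) := by
    refine C.normP (P := fun k' l' => k' = k ∧ l' = l) ?_ x (X_le_gp hkl ⟨rfl, rfl⟩ hx) t ht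
    rintro _ _ _ ⟨rfl, rfl⟩ k' l' hkl' ⟨hk', hl', b2⟩
    refine ⟨fun hop => ?_, fun p q hpq => ?_⟩
    · have e1 := Opp.cf ne hop i
      omega
    · obtain ⟨hp1, hp2⟩ := SumP.mem ne hJ hpq hk hl hk' hl'
      refine ⟨hp1, hp2, ?_⟩
      rcases hpq.2 with e | e | e | ⟨-, -, e⟩
      all_goals
        have e1 := e i
        omega
  have h2 : n⁻¹ * x * n ∈ C.Par J o := C.n_Par hJ hi ho hn (X_le_gp hkl ⟨hk, hl, h.ge⟩ hx)
  exact ⟨_, h1, n, hn, (n⁻¹ * x * n) * p, mul_mem h2 hp, by group⟩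

/-- the union of the cells -/
def XX (C : Cls X M) (J : Finset I) (o : I) : Set Γ := {g | ∃ i ∈ J, g ∈ C.XI J o i}

include hJ ho in
lemma XX_left {k l : I} (hk : k ∈ J) (hl : l ∈ J) (hkl : k ≠ -l) {x : Γ} (hx : x ∈ X k l)
    {g : Γ} (hg : g ∈ C.XX J o) : x * g ∈ C.XX J o := by
  have ne := C.ne
  obtain ⟨i, hi, hg⟩ := hg
  have one : ∀ {k l : I}, k ∈ J → l ∈ J → k ≠ -l → k = i → l ≠ i → l ≠ -i → ∀ {x : Γ}, x ∈ X k l → x * g ∈ C.XX J o := by
    intro k l hk hl hkl hki hli hli' x hx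
    subst hki
    have hj : -l ∈ J := hJ l hl
    have h1 : -l ≠ k := fun e => hkl e.symm
    have h2 : -l ≠ -k := fun e => hli (neg_inj.1 e)
    have hx' : x ∈ X k (- -l) := by rwa [neg_neg]
    obtain ⟨t, ht, n, hn, p, hp, rfl⟩ := hg
    obtain ⟨x', hx', t0, ht0, rfl⟩ := C.split_Y hJ hk hj h1 h2 ht
    by_cases h3 : x' = 1
    · subst h3
      rw [one_mul]
      obtain ⟨t1, ht1, l1, hl1, he⟩ := C.pass hJ hk hj h1 h2 (by rwa [neg_neg]) ht0
      have a1 : n⁻¹ * l1 * n ∈ C.Par J o := C.n_Par hJ hk ho hn (gp_mono (fun _ _ _ h => ⟨h.1, h.2.1, h.2.2.1.ge⟩) hl1)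
      have a2 : n⁻¹ * x * n ∈ C.Par J o := by
        refine C.n_Par hJ hk ho hn (X_le_gp hkl ⟨hk, hl, ?_⟩ hx)
        unfold cf; simp [hli, hli', ne' ne k]
      refine ⟨k, hk, t1, gp_mono (fun _ _ _ h => ⟨h.1, h.2.1, h.2.2.1⟩) ht1, n, hn, (n⁻¹ * l1 * n) * (n⁻¹ * x * n) * p,
        mul_mem (mul_mem a1 a2) hp, ?_⟩
      calc x * (t0 * n * p) = (x * t0) * n * p := by group
        _ = _ := by rw [he]; group
    · have h4 := C.switch hJ hk hj ho h1 h2 hx' h3 ht0 hn hp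
      refine ⟨-l, hj, C.XI_neg hk hl hkl ?_ hx h4⟩
      rw [cf_neg]
      have : cf k l l = 1 := by unfold cf; simp [Ne.symm hli, hkl, ne' ne l]
      rw [this]; norm_num
  rcases cf_cases ne hkl i with e | e | e | e | e | e | e
  · obtain ⟨-, rfl, h9⟩ := e
    have h9' := h9.symm
    subst h9'
    clear h9
    obtain ⟨t, ht, n, hn, p, hp, rfl⟩ := hg
    rcases C.dich hJ hk ht with h | ⟨j, hj, h1, h2, x', hx', h3, t0, ht0, rfl⟩
    · by_cases ht1 : t = 1
      · subst ht1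
        have a2 : n⁻¹ * x * n ∈ C.Par J o := by
          refine C.n_Par hJ hk ho hn (X_le_gp hkl ⟨hk, hl, ?_⟩ hx)
          unfold cf; simp [ne' ne k]
        exact ⟨k, hk, 1, one_mem _, n, hn, (n⁻¹ * x * n) * p, mul_mem a2 hp, by group⟩
      · have hk' := hJ k hk
        have hkk : -k ≠ - -k := by rw [neg_neg]; exact ne k
        obtain ⟨a, ha, b, hb, m, hm, rfl⟩ := C.rank1 (-k) (-k) hkk t h ht1
        rw [neg_neg] at ha hb
        obtain ⟨n', hn', p', hp', hmn⟩ := C.coset hJ hk' hk' hk ho hkk hm hn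
        have e1 : rf (-k) (-k) k = -k := by unfold rf; simp [ne' ne k]
        rw [e1] at hn'
        have a2 : n⁻¹ * b * n ∈ C.Par J o := by
          refine C.n_Par hJ hk ho hn (X_le_gp hkl ⟨hk, hl, ?_⟩ hb)
          unfold cf; simp [ne' ne k]
        refine ⟨-k, hk', x * a, X_le_gp hkl ⟨hk, hk, ?_⟩ (mul_mem hx ha), n', hn', p' * (n⁻¹ * b * n) * p,
          mul_mem (mul_mem hp' a2) hp, ?_⟩
        · rw [cf_neg]; unfold cf; simp [ne' ne k]
        · calc x * (a * m * b * n * p) = x * a * (m * n) * (n⁻¹ * b * n) * p := by group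
            _ = _ := by rw [hmn]; group
    · have h4 := C.switch hJ hk hj ho h1 h2 hx' h3 ht0 hn hp
      refine ⟨j, hj, C.XI_zero hJ ho hj hk hl hkl ?_ hx h4⟩
      have h5 : k ≠ -j := fun e => h2 (by rw [e, neg_neg])
      unfold cf; simp [h1.symm, h5]
  · exact ⟨i, hi, C.XI_neg hk hl hkl (by omega) hx hg⟩
  · exact one hk hl hkl e.2.1 e.2.2.1 e.2.2.2 hx
  · have hx' : x ∈ X l k := by rw [C.Xs]; exact hx
    exact one hl hk (fun e => hkl (by rw [e, neg_neg])) e.2.1 e.2.2.1 e.2.2.2 hx'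
  · exact ⟨i, hi, C.XI_neg hk hl hkl (by omega) hx hg⟩
  · exact ⟨i, hi, C.XI_neg hk hl hkl (by omega) hx hg⟩
  · exact ⟨i, hi, C.XI_zero hJ ho hi hk hl hkl e.1 hx hg⟩

include hJ ho in
lemma T_left {h : Γ} (hh : h ∈ C.T) {g : Γ} (hg : g ∈ C.XX J o) : h * g ∈ C.XX J o := by
  obtain ⟨i, hi, t, ht, n, hn, p, hp, rfl⟩ := hg
  have h1 := C.T_gp hh t ht
  have h2 : n⁻¹ * h * n ∈ C.T := by
    rcases hn with ⟨_, hn⟩ | ⟨hio, hn⟩
    · exact mul_mem (mul_mem (inv_mem hn) hh) hn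
    · exact C.M_T' (by rw [neg_neg]; exact hio) hn h hh
  exact ⟨i, hi, _, h1, n, hn, (n⁻¹ * h * n) * p, mul_mem (mem_sup_right h2) hp, by group⟩

include hJ ho in
theorem gp_sub_XX {g : Γ} (hg : g ∈ gp X (fun k l => k ∈ J ∧ l ∈ J) ⊔ C.T) : g ∈ C.XX J o := by
  have key : ∀ y ∈ C.XX J o, g * y ∈ C.XX J o := by
    have hle : gp X (fun k l => k ∈ J ∧ l ∈ J) ⊔ C.T ≤ closure ({g | ∃ k l, k ≠ -l ∧ (k ∈ J ∧ l ∈ J) ∧ g ∈ X k l} ∪ (C.T : Set Γ)) := by
      refine sup_le ?_ ?_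
      · exact closure_mono Set.subset_union_left
      · intro x hx; exact subset_closure (Or.inr hx)
    have hg' := hle hg
    clear hg
    have h1 : ∀ y ∈ C.XX J o, g * y ∈ C.XX J o ∧ g⁻¹ * y ∈ C.XX J o := by
      induction hg' using closure_induction with
      | mem x hx =>
        intro y hy
        rcases hx with ⟨k, l, hkl, ⟨hk, hl⟩, hx⟩ | hx
        · exact ⟨C.XX_left hJ ho hk hl hkl hx hy, C.XX_left hJ ho hk hl hkl (inv_mem hx) hy⟩
        · exact ⟨C.T_left hJ ho hx hy, C.T_left hJ ho (inv_mem hx) hy⟩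
      | one => intro y hy; simpa using hy
      | mul a b _ _ ha hb =>
        intro y hy
        refine ⟨?_, ?_⟩
        · rw [mul_assoc]; exact (ha _ (hb y hy).1).1
        · rw [mul_inv_rev, mul_assoc]; exact (hb _ (ha y hy).2).2
      | inv a _ ha => intro y hy; rw [inv_inv]; exact ⟨(ha y hy).2, (ha y hy).1⟩
    exact fun y hy => (h1 y hy).1
  have := key 1 ⟨o, ho, 1, one_mem _, 1, Or.inl ⟨rfl, one_mem _⟩, 1, one_mem _, by simp⟩
  rwa [mul_one] at this

end closure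

/-- the descent: an element which stabilizes all lines is in the torus -/
theorem descent (St : I → Subgroup Γ) (hT : ∀ o, C.T ≤ St o) (hX : ∀ o k l, k ≠ -l → 0 ≤ cf k l o → X k l ≤ St o)
    (hY : ∀ (J : Finset I) (i o : I), i ∈ J → o ∈ J → ∀ t ∈ gp X (Yp J i), ∀ n ∈ C.NN i o, t * n ∈ St o → i = o ∧ t = 1)
    (N : ℕ) : ∀ (J : Finset I) (_ : J.card = N) (_ : ∀ k ∈ J, -k ∈ J) (g : Γ) (_ : g ∈ gp X (fun k l => k ∈ J ∧ l ∈ J) ⊔ C.T)
      (_ : ∀ o ∈ J, g ∈ St o), g ∈ C.T := by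
  have ne := C.ne
  induction N using Nat.strong_induction_on with
  | _ N ih =>
    intro J hJN hJ g hg hst
    rcases J.eq_empty_or_nonempty with rfl | ⟨o, ho⟩
    · have : gp X (fun k l => k ∈ (∅ : Finset I) ∧ l ∈ (∅ : Finset I)) ≤ C.T := gp_le fun k l _ h => absurd h.1 (Finset.notMem_empty _)
      exact (sup_le this le_rfl) hg
    · have ho' := hJ o ho
      have hP : C.Par J o ≤ St o := sup_le (gp_le fun k l hkl h => hX o k l hkl h.2.2) (hT o)
      obtain ⟨i, hi, t, ht, n, hn, p, hp, he⟩ := C.gp_sub_XX hJ ho hg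
      have h1 : t * n ∈ St o := by
        have : t * n = g * p⁻¹ := by rw [he]; group
        rw [this]; exact mul_mem (hst o ho) (inv_mem (hP hp))
      obtain ⟨rfl, rfl⟩ := hY J i o hi ho t ht n hn h1
      have hn' : n ∈ C.T := by
        rcases hn with ⟨_, hn⟩ | ⟨hn, _⟩
        · exact hn
        · exact absurd rfl hn
      have hgP : g ∈ C.Par J i := by
        rw [he, one_mul]; exact mul_mem (mem_sup_right hn') hp
      -- decompose
      have hle : C.Par J i ≤ (gp X (fun k l => k ∈ J ∧ l ∈ J ∧ cf k l i = 0) ⊔ C.T) ⊔ gp X (Yp J (-i)) := by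
        refine sup_le (gp_le fun k l hkl ⟨hk, hl, h⟩ => ?_) (le_sup_right.trans le_sup_left)
        rcases h.eq_or_lt with h | h
        · exact (X_le_gp (P := fun k l => k ∈ J ∧ l ∈ J ∧ cf k l i = 0) hkl ⟨hk, hl, h.symm⟩).trans
            (le_sup_left.trans le_sup_left)
        · refine (X_le_gp (P := Yp J (-i)) hkl ⟨hk, hl, ?_⟩).trans le_sup_right
          rw [cf_neg]; omega
      have hnorm1 : ∀ x ∈ gp X (fun k l => k ∈ J ∧ l ∈ J ∧ cf k l i = 0), ∀ y ∈ gp X (Yp J (-i)), x * y * x⁻¹ ∈ gp X (Yp J (-i)) := by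
        refine C.normP ?_
        rintro k l hkl ⟨hk, hl, a2⟩ k' l' hkl' ⟨hk', hl', b2⟩
        refine ⟨fun hop => ?_, fun p q hpq => ?_⟩
        · have e1 := Opp.cf ne hop i
          rw [cf_neg] at b2
          omega
        · obtain ⟨hp1, hp2⟩ := SumP.mem ne hJ hpq hk hl hk' hl'
          refine ⟨hp1, hp2, ?_⟩
          rw [cf_neg] at b2 ⊢
          rcases hpq.2 with e | e | e | ⟨-, -, e⟩
          all_goals
            have e1 := e i
            omega
      have hnorm : ∀ x ∈ gp X (fun k l => k ∈ J ∧ l ∈ J ∧ cf k l i = 0) ⊔ C.T, ∀ y ∈ gp X (Yp J (-i)),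
          x * y * x⁻¹ ∈ gp X (Yp J (-i)) := by
        intro x hx
        have : gp X (fun k l => k ∈ J ∧ l ∈ J ∧ cf k l i = 0) ⊔ C.T ≤ normalizer (gp X (Yp J (-i)) : Set Γ) := by
          refine sup_le ?_ ?_
          · intro x hx
            rw [mem_normalizer_iff]
            intro y
            refine ⟨fun hy => hnorm1 x hx y hy, fun hy => ?_⟩
            have := hnorm1 x⁻¹ (inv_mem hx) _ hy
            simpa [mul_assoc] using this
          · intro x hx
            rw [mem_normalizer_iff]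
            intro y
            refine ⟨fun hy => C.T_gp hx y hy, fun hy => ?_⟩
            have := C.T_gp (inv_mem hx) _ hy
            simpa [mul_assoc] using this
        intro y hy
        exact (mem_normalizer_iff.1 (this hx) y).1 hy
      obtain ⟨u, hu, γ, hγ, hge⟩ := Cfsg.Agent.ChevGrp.mem_sup_of_normalizes' hnorm (hle hgP)
      have hγSt : γ ∈ St (-i) := by
        refine (sup_le (gp_le fun k l hkl h => hX (-i) k l hkl ?_) (hT _) :
          gp X (fun k l => k ∈ J ∧ l ∈ J ∧ cf k l i = 0) ⊔ C.T ≤ St (-i)) hγ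
        rw [cf_neg, h.2.2, neg_zero]
      have hu1 : u = 1 := by
        have h2 : u * 1 ∈ St (-i) := by
          have : u * 1 = g * γ⁻¹ := by rw [hge]; group
          rw [this]; exact mul_mem (hst _ ho') (inv_mem hγSt)
        exact (hY J (-i) (-i) ho' ho' u hu 1 (Or.inl ⟨rfl, one_mem _⟩) h2).2
      subst hu1
      rw [one_mul] at hge
      subst hge
      set J' := (J.erase i).erase (-i) with hJ'
      have hJ'm : ∀ k, k ∈ J' ↔ k ≠ -i ∧ k ≠ i ∧ k ∈ J := fun k => by rw [hJ', Finset.mem_erase, Finset.mem_erase]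
      have hcard : J'.card < N := by
        rw [hJ', ← hJN]
        exact (Finset.card_le_card (Finset.erase_subset _ _)).trans_lt (Finset.card_erase_lt_of_mem ho)
      refine ih J'.card hcard J' rfl ?_ g ?_ ?_
      · intro k hk
        rw [hJ'm] at hk ⊢
        exact ⟨fun e => hk.2.1 (neg_inj.1 e), fun e => hk.1 (by rw [← e, neg_neg]), hJ k hk.2.2⟩
      · refine (sup_le_sup_right (gp_mono fun k l hkl h => ?_) C.T) hγ
        rcases cf_cases ne hkl i with e | e | e | e | e | e | e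
        · omega
        · omega
        · omega
        · omega
        · omega
        · omega
        · exact ⟨(hJ'm k).2 ⟨e.2.2.1, e.2.1, h.1⟩, (hJ'm l).2 ⟨e.2.2.2.2, e.2.2.2.1, h.2.1⟩⟩
      · intro o' ho'
        exact hst o' ((hJ'm o').1 ho').2.2

end Cls

end Cfsg.Agent.Stb
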