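import Cfsg.Agent.Mult.Symb

set_option autoImplicit false

/-!
Rank one groups over finite fields: the rank one Steinberg relations present `SL 2`.
-/

namespace Cfsg.Agent.Mult

open Subgroup
open scoped commutatorElement

/-- over a finite field with nonsquares, there are two nonsquares with sum one -/
theorem exists_nonsq_add {F : Type*} [Field F] [Finite F] {g : Fˣ} (hg : ∀ x : Fˣ, x ∈ zpowers g) (hgns : ¬ IsSquare g) :
    ∃ t u : Fˣ, ¬ IsSquare t ∧ ¬ IsSquare u ∧ (t : F) + u = 1 := by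
  by_contra hcon
  push Not at hcon
  have key : ∀ t u : Fˣ, (t : F) + u = 1 → ¬ IsSquare t → IsSquare u := by
    intro t u htu ht
    by_contra hu
    exact hcon t u ht hu htu
  have hne1 : ∀ s : {x : Fˣ // IsSquare x}, (1 : F) - (g : F) * ((s : Fˣ) : F) ≠ 0 := by
    intro s h0
    rw [sub_eq_zero] at h0
    have h1 : g * (s : Fˣ) = 1 := Units.ext (by push_cast; exact h0.symm)
    obtain ⟨w, hw⟩ := s.2
    apply hgns
    refine ⟨w⁻¹, ?_⟩
    rw [← mul_inv, ← hw]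
    exact eq_inv_of_mul_eq_one_left h1
  have hsq : ∀ s : {x : Fˣ // IsSquare x}, IsSquare (Units.mk0 _ (hne1 s)) := by
    intro s
    refine key (g * (s : Fˣ)) _ ?_ ?_
    · simp
    · intro h
      apply hgns
      have h2 : g = g * (s : Fˣ) * (s : Fˣ)⁻¹ := by group
      rw [h2]
      exact h.mul s.2.inv
  let φ : {x : Fˣ // IsSquare x} → {x : Fˣ // IsSquare x} := fun s => ⟨Units.mk0 _ (hne1 s), hsq s⟩
  have hinj : Function.Injective φ := by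
    intro s s' h
    have h1 : (1 : F) - (g : F) * ((s : Fˣ) : F) = 1 - (g : F) * ((s' : Fˣ) : F) := by
      exact congrArg (fun z : {x : Fˣ // IsSquare x} => ((z : Fˣ) : F)) h
    have h2 : (g : F) * ((s : Fˣ) : F) = (g : F) * ((s' : Fˣ) : F) := by linear_combination -h1
    exact Subtype.ext (Units.ext (mul_left_cancel₀ (Units.ne_zero g) h2))
  obtain ⟨s, hs⟩ := (Finite.injective_iff_surjective.1 hinj) ⟨1, IsSquare.one⟩
  have h1 : (1 : F) - (g : F) * ((s : Fˣ) : F) = 1 := by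
    have := congrArg (fun z : {x : Fˣ // IsSquare x} => ((z : Fˣ) : F)) hs
    simpa [φ] using this
  have h2 : (g : F) * ((s : Fˣ) : F) = 0 := by linear_combination -h1
  exact (mul_ne_zero (Units.ne_zero g) (Units.ne_zero (s : Fˣ))) h2

namespace R1

variable {Γ : Type*} [Group Γ] {F : Type*} [Field F] {X Y : F → Γ} (R : R1 X Y)

lemma n_neg_one : R.n (-1) * R.n 1 = 1 := by rw [← R.n_inv, inv_mul_cancel]

lemma n_one_neg : R.n 1 * R.n (-1) = 1 := by rw [← R.n_inv, mul_inv_cancel]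

lemma h_X {t : F} (ht : t ≠ 0) (v : F) : R.h t * X v = X (t ^ 2 * v) * R.h t := by
  unfold h
  rw [mul_assoc, R.n_mul_X (neg_ne_zero.2 one_ne_zero), ← mul_assoc, R.n_mul_Y ht, mul_assoc]
  congr 2
  rw [inv_neg, inv_one]; ring

lemma h_Y {t : F} (ht : t ≠ 0) (v : F) : R.h t * Y v = Y (t⁻¹ ^ 2 * v) * R.h t := by
  unfold h
  rw [mul_assoc, R.n_mul_Y (neg_ne_zero.2 one_ne_zero), ← mul_assoc, R.n_mul_X ht, mul_assoc]
  congr 2
  ring

lemma h_n {t : F} (ht : t ≠ 0) (u : F) : R.h t * R.n u = R.n (t ^ 2 * u) * R.h t := by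
  have h1 := R.h_X ht u
  have h2 := R.h_Y ht (-u⁻¹)
  have e : t⁻¹ ^ 2 * -u⁻¹ = -(t ^ 2 * u)⁻¹ := by rw [mul_inv]; ring
  rw [e] at h2
  unfold n
  calc R.h t * (X u * Y (-u⁻¹) * X u) = (R.h t * X u) * Y (-u⁻¹) * X u := by group
    _ = X (t ^ 2 * u) * (R.h t * Y (-u⁻¹)) * X u := by rw [h1]; group
    _ = X (t ^ 2 * u) * Y (-(t ^ 2 * u)⁻¹) * (R.h t * X u) := by rw [h2]; group
    _ = _ := by rw [h1]; group

lemma h_one : R.h 1 = 1 := R.n_one_neg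

lemma n_eq (s : F) : R.n s = R.h s * R.n 1 := by
  unfold h; rw [mul_assoc, R.n_neg_one, mul_one]

lemma h_h {t : F} (ht : t ≠ 0) (u : F) : R.h t * R.h u = R.h (t ^ 2 * u) * (R.h (t ^ 2))⁻¹ * R.h t := by
  have e1 : R.h t * R.h u = R.n (t ^ 2 * u) * R.n (-t ^ 2) * R.h t := by
    have : R.h u = R.n u * R.n (-1) := rfl
    rw [this, ← mul_assoc, R.h_n ht, mul_assoc, R.h_n ht, ← mul_assoc, mul_neg_one]
  rw [e1]
  congr 1
  unfold h
  rw [mul_inv_rev, R.n_inv, R.n_inv, neg_neg]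
  rw [mul_assoc, ← mul_assoc (R.n (-1)), R.n_neg_one, one_mul]

/-- for finite fields the symbols are trivial -/
theorem h_mul' [Finite F] (hcent : ∀ t u : F, t ≠ 0 → u ≠ 0 → R.c t u ∈ center Γ) {t u : F} (ht : t ≠ 0) (hu : u ≠ 0) :
    R.h t * R.h u = R.h (t * u) := by
  obtain ⟨g, hg⟩ := IsCyclic.exists_generator (α := Fˣ)
  have hpow : ∀ x : Fˣ, ∃ n : ℕ, g ^ n = x := fun x => (mem_powers_iff_mem_zpowers.2 (hg x))
  have hgen : ∀ n : ℕ, ∃ z ∈ center Γ, R.h ((g : F) ^ n) = z * R.h (g : F) ^ n := by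
    intro n
    induction n with
    | zero => exact ⟨1, one_mem _, by simp [R.h_one]⟩
    | succ n ih =>
      obtain ⟨z, hz, h1⟩ := ih
      have h2 := hcent ((g : F) ^ n) g (pow_ne_zero _ g.ne_zero) g.ne_zero
      refine ⟨(R.c ((g : F) ^ n) g)⁻¹ * z, mul_mem (inv_mem h2) hz, ?_⟩
      have h3 : R.h ((g : F) ^ n) * R.h (g : F) * (R.h ((g : F) ^ n * g))⁻¹ = R.c ((g : F) ^ n) g := rfl
      rw [pow_succ (g : F) n, pow_succ (R.h (g : F)) n]
      have h4 : (R.c ((g : F) ^ n) g)⁻¹ * (R.h ((g : F) ^ n) * R.h (g : F)) = R.h ((g : F) ^ n * g) := by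
        rw [← h3]; group
      rw [← h4, h1]; group
  have hcomm : ∀ {t u : F}, t ≠ 0 → u ≠ 0 → R.h t * R.h u = R.h u * R.h t := by
    intro t u ht hu
    obtain ⟨n, hn⟩ := hpow (Units.mk0 t ht)
    obtain ⟨m, hm⟩ := hpow (Units.mk0 u hu)
    have e1 : (g : F) ^ n = t := by
      have := congrArg Units.val hn
      simpa using this
    have e2 : (g : F) ^ m = u := by
      have := congrArg Units.val hm
      simpa using this
    obtain ⟨z, hz, h1⟩ := hgen n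
    obtain ⟨w, hw, h2⟩ := hgen m
    rw [e1] at h1
    rw [e2] at h2
    have hz' := mem_center_iff.1 hz
    have hw' := mem_center_iff.1 hw
    rw [h1, h2]
    calc z * R.h (g : F) ^ n * (w * R.h (g : F) ^ m) = z * (R.h (g : F) ^ n * w) * R.h (g : F) ^ m := by group
      _ = z * (w * R.h (g : F) ^ n) * R.h (g : F) ^ m := by rw [hw']
      _ = (z * w) * (R.h (g : F) ^ n * R.h (g : F) ^ m) := by group
      _ = (w * z) * (R.h (g : F) ^ m * R.h (g : F) ^ n) := by rw [← pow_add, ← pow_add, add_comm, hz']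
      _ = w * (z * R.h (g : F) ^ m) * R.h (g : F) ^ n := by group
      _ = w * (R.h (g : F) ^ m * z) * R.h (g : F) ^ n := by rw [hz']
      _ = _ := by group
  have hsq : ∀ {t u : F}, t ≠ 0 → u ≠ 0 → R.h (t ^ 2 * u) = R.h u * R.h (t ^ 2) := by
    intro t u ht hu
    have h1 := R.h_h ht u
    rw [hcomm ht hu] at h1
    have h2 := mul_right_cancel h1
    rw [h2, inv_mul_cancel_right]
  have hsq1 : ∀ {t u : F}, t ≠ 0 → u ≠ 0 → R.h u * R.h (t ^ 2) = R.h (u * t ^ 2) := by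
    intro t u ht hu
    rw [mul_comm u, hsq ht hu]
  by_cases hus : IsSquare (Units.mk0 u hu)
  · obtain ⟨w, hw⟩ := hus
    have e : u = (w : F) ^ 2 := by
      have := congrArg Units.val hw
      rw [pow_two]; simpa using this
    rw [e]; exact hsq1 w.ne_zero ht
  by_cases hts : IsSquare (Units.mk0 t ht)
  · obtain ⟨w, hw⟩ := hts
    have e : t = (w : F) ^ 2 := by
      have := congrArg Units.val hw
      rw [pow_two]; simpa using this
    rw [e, hsq w.ne_zero hu, hcomm (pow_ne_zero _ w.ne_zero) hu]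
  -- two nonsquares
  have hpsq : ∀ {n : ℕ}, Even n → IsSquare (g ^ n) := fun h => h.isSquare_pow g
  have hgns : ¬ IsSquare g := by
    intro h
    obtain ⟨n, hn⟩ := hpow (Units.mk0 u hu)
    apply hus
    rw [← hn]; exact h.pow n
  have hmulsq : ∀ {a b : Fˣ}, ¬ IsSquare a → ¬ IsSquare b → ∃ w : Fˣ, a = b * w ^ 2 := by
    intro a b ha hb
    obtain ⟨i, rfl⟩ := hpow a
    obtain ⟨j, rfl⟩ := hpow b
    have hi : Odd i := by rw [← Nat.not_even_iff_odd]; exact fun h => ha (hpsq h)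
    have hj : Odd j := by rw [← Nat.not_even_iff_odd]; exact fun h => hb (hpsq h)
    obtain ⟨w, hw⟩ := hpsq (hi.add_odd hj)
    refine ⟨w * (g ^ j)⁻¹, ?_⟩
    have e : g ^ i * g ^ j = w * w := by rw [← pow_add, hw]
    calc g ^ i = (g ^ i * g ^ j) * (g ^ j)⁻¹ := by group
      _ = w * w * (g ^ j)⁻¹ := by rw [e]
      _ = g ^ j * (w * (g ^ j)⁻¹) ^ 2 := by
        rw [mul_pow, pow_two w, pow_two (g ^ j)⁻¹]
        calc w * w * (g ^ j)⁻¹ = w * w * ((g ^ j)⁻¹ * (g ^ j)⁻¹) * g ^ j := by group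
          _ = _ := mul_comm _ _
  obtain ⟨t0, u0, ht0, hu0, h01⟩ := exists_nonsq_add hg hgns
  obtain ⟨w, hw⟩ := hmulsq hts ht0
  obtain ⟨v, hv⟩ := hmulsq hus hu0
  have et : t = t0 * (w : F) ^ 2 := by
    have := congrArg Units.val hw
    simpa using this
  have eu : u = u0 * (v : F) ^ 2 := by
    have := congrArg Units.val hv
    simpa using this
  have hst : R.h (t0 : F) * R.h (u0 : F) = R.h ((t0 : F) * u0) := by
    have h1 := R.steinberg t0.ne_zero u0.ne_zero h01 (hcent _ _ t0.ne_zero u0.ne_zero) (by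
      unfold c h
      rw [mul_inv_rev]
      group)
    unfold c at h1
    rwa [mul_inv_eq_one] at h1
  have hw2 : (w : F) ^ 2 ≠ 0 := pow_ne_zero _ w.ne_zero
  have hv2 : (v : F) ^ 2 ≠ 0 := pow_ne_zero _ v.ne_zero
  have e1 : t * u = (v : F) ^ 2 * ((w : F) ^ 2 * (t0 * u0)) := by rw [et, eu]; ring
  rw [e1, hsq v.ne_zero (mul_ne_zero hw2 (mul_ne_zero t0.ne_zero u0.ne_zero)),
    hsq w.ne_zero (mul_ne_zero t0.ne_zero u0.ne_zero), ← hst, et, eu, ← hsq1 w.ne_zero t0.ne_zero,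
    ← hsq1 v.ne_zero u0.ne_zero]
  calc R.h (t0 : F) * R.h ((w : F) ^ 2) * (R.h (u0 : F) * R.h ((v : F) ^ 2))
      = R.h (t0 : F) * (R.h ((w : F) ^ 2) * R.h (u0 : F)) * R.h ((v : F) ^ 2) := by group
    _ = R.h (t0 : F) * (R.h (u0 : F) * R.h ((w : F) ^ 2)) * R.h ((v : F) ^ 2) := by rw [hcomm hw2 u0.ne_zero]
    _ = _ := by group

/-- the rank one group -/
def S (_ : R1 X Y) : Subgroup Γ := closure (Set.range X ∪ Set.range Y)

lemma X_mem (a : F) : X a ∈ R.S := subset_closure (Or.inl ⟨a, rfl⟩)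
lemma Y_mem (a : F) : Y a ∈ R.S := subset_closure (Or.inr ⟨a, rfl⟩)

/-- the relations in the rank one group -/
lemma sub : R1 (fun a => (⟨X a, R.X_mem a⟩ : R.S)) (fun a => (⟨Y a, R.Y_mem a⟩ : R.S)) where
  X_add t u := Subtype.ext (R.X_add t u)
  Y_add t u := Subtype.ext (R.Y_add t u)
  nX t v ht := Subtype.ext (R.nX t v ht)
  nY t v ht := Subtype.ext (R.nY t v ht)

lemma c_comm_of {t u : F} {A B : Γ} (h1 : R.h t * R.h u * A = B * (R.h t * R.h u)) (h2 : R.h (t * u) * A = B * R.h (t * u)) :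
    R.c t u * B = B * R.c t u := by
  have h3 : (R.h (t * u))⁻¹ * B = A * (R.h (t * u))⁻¹ := by
    rw [inv_mul_eq_iff_eq_mul, ← mul_assoc, h2, mul_inv_cancel_right]
  unfold c
  rw [mul_assoc, h3, ← mul_assoc, h1, mul_assoc]

lemma c_X {t u : F} (ht : t ≠ 0) (hu : u ≠ 0) (v : F) : R.c t u * X v = X v * R.c t u := by
  have hne : t ^ 2 * u ^ 2 ≠ 0 := mul_ne_zero (pow_ne_zero _ ht) (pow_ne_zero _ hu)
  have key := R.c_comm_of (t := t) (u := u) (A := X (v / (t ^ 2 * u ^ 2))) (B := X v) ?_ ?_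
  · exact key
  · rw [mul_assoc, R.h_X hu, ← mul_assoc, R.h_X ht, mul_assoc]
    congr 2; field_simp
  · rw [R.h_X (mul_ne_zero ht hu)]
    congr 2; field_simp

lemma c_Y {t u : F} (ht : t ≠ 0) (hu : u ≠ 0) (v : F) : R.c t u * Y v = Y v * R.c t u := by
  have key := R.c_comm_of (t := t) (u := u) (A := Y (v * (t ^ 2 * u ^ 2))) (B := Y v) ?_ ?_
  · exact key
  · rw [mul_assoc, R.h_Y hu, ← mul_assoc, R.h_Y ht, mul_assoc]
    congr 2; field_simp
  · rw [R.h_Y (mul_ne_zero ht hu)]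
    congr 2; field_simp

/-- multiplicativity of the torus elements of a rank one group over a finite field -/
theorem h_mul1 [Finite F] {t u : F} (ht : t ≠ 0) (hu : u ≠ 0) : R.h t * R.h u = R.h (t * u) := by
  have key := R.sub.h_mul' (fun t u ht hu => ?_) ht hu
  · exact congrArg Subtype.val key
  · rw [mem_center_iff]
    intro g
    obtain ⟨g, hg⟩ := g
    apply Subtype.ext
    change g * R.c t u = R.c t u * g
    have : R.S ≤ centralizer {R.c t u} := by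
      unfold S
      rw [closure_le]
      rintro _ (⟨v, rfl⟩ | ⟨v, rfl⟩)
      · rw [SetLike.mem_coe, mem_centralizer_iff]
        rintro _ rfl
        exact R.c_X ht hu v
      · rw [SetLike.mem_coe, mem_centralizer_iff]
        rintro _ rfl
        exact R.c_Y ht hu v
    exact ((mem_centralizer_iff.1 (this hg)) _ rfl).symm

lemma n_flip {s : F} (hs : s ≠ 0) : R.n s = Y (-s⁻¹) * X s * Y (-s⁻¹) := by
  have h1 := R.n_mul_X hs s
  have e : s⁻¹ ^ 2 * s = s⁻¹ := by field_simp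
  rw [e] at h1
  have h2 : R.n s = X s * Y (-s⁻¹) * X s := rfl
  have h3 : R.n s * X s = Y (-s⁻¹) * X s * Y (-s⁻¹) * X s := by rw [h1, h2]; group
  exact mul_right_cancel h3

lemma n_h {t : F} (ht : t ≠ 0) : R.n 1 * R.h t = R.h t⁻¹ * R.n 1 := by
  have h1 : ∀ v, R.n 1 * X v = Y (-v) * R.n 1 := fun v => by
    rw [R.n_mul_X one_ne_zero]; congr 2; ring
  have h2 : ∀ v, R.n 1 * Y v = X (-v) * R.n 1 := fun v => by
    rw [R.n_mul_Y one_ne_zero]; congr 2; ring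
  have h3 : ∀ s, s ≠ 0 → R.n 1 * R.n s = R.n s⁻¹ * R.n 1 := by
    intro s hs
    have e1 : R.n s = X s * Y (-s⁻¹) * X s := rfl
    have e2 := R.n_flip (inv_ne_zero hs)
    rw [inv_inv] at e2
    calc R.n 1 * R.n s = (R.n 1 * X s) * Y (-s⁻¹) * X s := by rw [e1]; group
      _ = Y (-s) * (R.n 1 * Y (-s⁻¹)) * X s := by rw [h1]; group
      _ = Y (-s) * X s⁻¹ * (R.n 1 * X s) := by rw [h2, neg_neg]; group
      _ = Y (-s) * X s⁻¹ * Y (-s) * R.n 1 := by rw [h1]; group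
      _ = _ := by rw [e2]
  unfold h
  calc R.n 1 * (R.n t * R.n (-1)) = (R.n 1 * R.n t) * R.n (-1) := by group
    _ = R.n t⁻¹ * (R.n 1 * R.n (-1)) := by rw [h3 t ht]; group
    _ = R.n t⁻¹ * R.n (-1) * R.n 1 := by rw [R.n_one_neg, mul_assoc, R.n_neg_one]

lemma Y_eq {v : F} (hv : v ≠ 0) : Y v = X v⁻¹ * R.h (-v⁻¹) * R.n 1 * X v⁻¹ := by
  have h1 : R.n (-v⁻¹) = X (-v⁻¹) * Y (-(-v⁻¹)⁻¹) * X (-v⁻¹) := rfl
  have e : -(-v⁻¹)⁻¹ = v := by rw [inv_neg, inv_inv, neg_neg]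
  rw [e, R.X_neg] at h1
  rw [mul_assoc (X v⁻¹), ← R.n_eq, h1]; group

/-- Bruhat decomposition of the rank one group -/
theorem bruhat [Finite F] {g : Γ} (hg : g ∈ R.S) : (∃ a t, t ≠ 0 ∧ g = X a * R.h t) ∨
    (∃ a t b, t ≠ 0 ∧ g = X a * R.h t * R.n 1 * X b) := by
  have hm : ∀ {t u : F}, t ≠ 0 → u ≠ 0 → R.h t * R.h u = R.h (t * u) := fun ht hu => R.h_mul1 ht hu
  have Xh : ∀ {t : F}, t ≠ 0 → ∀ v, X v * R.h t = R.h t * X (t⁻¹ ^ 2 * v) := by
    intro t ht v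
    rw [R.h_X ht]; congr 2; field_simp
  have nn : R.n 1 * R.n 1 = R.h (-1) := by
    have h1 : R.h (-1) * R.h (-1) = 1 := by
      rw [hm (neg_ne_zero.2 one_ne_zero) (neg_ne_zero.2 one_ne_zero), neg_mul_neg, one_mul, R.h_one]
    have h2 : R.h (-1) = R.n (-1) * R.n (-1) := rfl
    have h3 : R.n 1 * R.n 1 * R.h (-1) = 1 := by
      rw [h2]
      calc R.n 1 * R.n 1 * (R.n (-1) * R.n (-1)) = R.n 1 * (R.n 1 * R.n (-1)) * R.n (-1) := by group
        _ = _ := by rw [R.n_one_neg, mul_one, R.n_one_neg]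
    rw [← mul_one (R.n 1 * R.n 1), ← h1, ← mul_assoc, h3, one_mul]
  have P : ∀ y : Γ, ((∃ a t, t ≠ 0 ∧ y = X a * R.h t) ∨ (∃ a t b, t ≠ 0 ∧ y = X a * R.h t * R.n 1 * X b)) →
      (∀ v, (∃ a t, t ≠ 0 ∧ X v * y = X a * R.h t) ∨ (∃ a t b, t ≠ 0 ∧ X v * y = X a * R.h t * R.n 1 * X b)) ∧
      (∀ v, (∃ a t, t ≠ 0 ∧ Y v * y = X a * R.h t) ∨ (∃ a t b, t ≠ 0 ∧ Y v * y = X a * R.h t * R.n 1 * X b)) := by
    intro y hy
    refine ⟨fun v => ?_, fun v => ?_⟩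
    · rcases hy with ⟨a, t, ht, rfl⟩ | ⟨a, t, b, ht, rfl⟩
      · left; exact ⟨v + a, t, ht, by rw [R.X_add]; group⟩
      · right; exact ⟨v + a, t, b, ht, by rw [R.X_add]; group⟩
    · by_cases hv : v = 0
      · rw [hv, R.Y_zero, one_mul]; exact hy
      have hv' : -v⁻¹ ≠ 0 := neg_ne_zero.2 (inv_ne_zero hv)
      rcases hy with ⟨a, t, ht, rfl⟩ | ⟨a, t, b, ht, rfl⟩
      · right
        refine ⟨v⁻¹, -v⁻¹ * t⁻¹, t⁻¹ ^ 2 * (v⁻¹ + a), mul_ne_zero hv' (inv_ne_zero ht), ?_⟩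
        rw [R.Y_eq hv]
        calc X v⁻¹ * R.h (-v⁻¹) * R.n 1 * X v⁻¹ * (X a * R.h t)
            = X v⁻¹ * R.h (-v⁻¹) * R.n 1 * (X (v⁻¹ + a) * R.h t) := by rw [R.X_add]; group
          _ = X v⁻¹ * R.h (-v⁻¹) * (R.n 1 * R.h t) * X (t⁻¹ ^ 2 * (v⁻¹ + a)) := by rw [Xh ht]; group
          _ = X v⁻¹ * (R.h (-v⁻¹) * R.h t⁻¹) * R.n 1 * X (t⁻¹ ^ 2 * (v⁻¹ + a)) := by rw [R.n_h ht]; group
          _ = _ := by rw [hm hv' (inv_ne_zero ht)]
      · by_cases hc : v⁻¹ + a = 0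
        · left
          refine ⟨v⁻¹ + (-v⁻¹ * t⁻¹ * -1) ^ 2 * b, -v⁻¹ * t⁻¹ * -1,
            mul_ne_zero (mul_ne_zero hv' (inv_ne_zero ht)) (neg_ne_zero.2 one_ne_zero), ?_⟩
          rw [R.Y_eq hv]
          calc X v⁻¹ * R.h (-v⁻¹) * R.n 1 * X v⁻¹ * (X a * R.h t * R.n 1 * X b)
              = X v⁻¹ * R.h (-v⁻¹) * R.n 1 * X (v⁻¹ + a) * R.h t * R.n 1 * X b := by rw [R.X_add]; group
            _ = X v⁻¹ * R.h (-v⁻¹) * (R.n 1 * R.h t) * R.n 1 * X b := by rw [hc, R.X_zero]; group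
            _ = X v⁻¹ * (R.h (-v⁻¹) * R.h t⁻¹) * (R.n 1 * R.n 1) * X b := by rw [R.n_h ht]; group
            _ = X v⁻¹ * (R.h (-v⁻¹ * t⁻¹) * R.h (-1)) * X b := by rw [hm hv' (inv_ne_zero ht), nn]; group
            _ = X v⁻¹ * (R.h (-v⁻¹ * t⁻¹ * -1) * X b) := by
                rw [hm (mul_ne_zero hv' (inv_ne_zero ht)) (neg_ne_zero.2 one_ne_zero)]; group
            _ = _ := by
                rw [R.h_X (mul_ne_zero (mul_ne_zero hv' (inv_ne_zero ht)) (neg_ne_zero.2 one_ne_zero)), R.X_add]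
                group
        · right
          set c := v⁻¹ + a with hcdef
          have hc1 : (-c)⁻¹ ≠ 0 := inv_ne_zero (neg_ne_zero.2 hc)
          have hc2 : -(-c)⁻¹ ≠ 0 := neg_ne_zero.2 hc1
          have ht1 : t⁻¹ * -1 ≠ 0 := mul_ne_zero (inv_ne_zero ht) (neg_ne_zero.2 one_ne_zero)
          have hx : R.n 1 * X c = Y (-c) * R.n 1 := by rw [R.n_mul_X one_ne_zero]; congr 2; ring
          refine ⟨v⁻¹ + (-v⁻¹) ^ 2 * (-c)⁻¹, -v⁻¹ * -(-c)⁻¹ * (t⁻¹ * -1)⁻¹, (t⁻¹ * -1)⁻¹ ^ 2 * (-c)⁻¹ + b,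
            mul_ne_zero (mul_ne_zero hv' hc2) (inv_ne_zero ht1), ?_⟩
          rw [R.Y_eq hv]
          calc X v⁻¹ * R.h (-v⁻¹) * R.n 1 * X v⁻¹ * (X a * R.h t * R.n 1 * X b)
              = X v⁻¹ * R.h (-v⁻¹) * (R.n 1 * X c) * R.h t * R.n 1 * X b := by rw [hcdef, R.X_add]; group
            _ = X v⁻¹ * R.h (-v⁻¹) * Y (-c) * (R.n 1 * R.h t) * R.n 1 * X b := by rw [hx]; group
            _ = X v⁻¹ * R.h (-v⁻¹) * Y (-c) * (R.h t⁻¹ * (R.n 1 * R.n 1)) * X b := by rw [R.n_h ht]; group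
            _ = X v⁻¹ * R.h (-v⁻¹) * Y (-c) * R.h (t⁻¹ * -1) * X b := by
                rw [nn, hm (inv_ne_zero ht) (neg_ne_zero.2 one_ne_zero)]
            _ = X v⁻¹ * (R.h (-v⁻¹) * X (-c)⁻¹) * R.h (-(-c)⁻¹) * R.n 1 * (X (-c)⁻¹ * R.h (t⁻¹ * -1)) * X b := by
                rw [R.Y_eq (neg_ne_zero.2 hc)]; group
            _ = X v⁻¹ * X ((-v⁻¹) ^ 2 * (-c)⁻¹) * (R.h (-v⁻¹) * R.h (-(-c)⁻¹)) * (R.n 1 * R.h (t⁻¹ * -1)) *
                (X ((t⁻¹ * -1)⁻¹ ^ 2 * (-c)⁻¹) * X b) := by rw [R.h_X hv', Xh ht1]; group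
            _ = _ := by
                rw [hm hv' hc2, R.n_h ht1, R.X_add, R.X_add, ← hm (mul_ne_zero hv' hc2) (inv_ne_zero ht1)]
                group
  have key : ∀ y : Γ, ((∃ a t, t ≠ 0 ∧ y = X a * R.h t) ∨ (∃ a t b, t ≠ 0 ∧ y = X a * R.h t * R.n 1 * X b)) →
      ((∃ a t, t ≠ 0 ∧ g * y = X a * R.h t) ∨ (∃ a t b, t ≠ 0 ∧ g * y = X a * R.h t * R.n 1 * X b)) ∧
      ((∃ a t, t ≠ 0 ∧ g⁻¹ * y = X a * R.h t) ∨ (∃ a t b, t ≠ 0 ∧ g⁻¹ * y = X a * R.h t * R.n 1 * X b)) := by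
    unfold S at hg
    induction hg using closure_induction with
    | mem x hx =>
      intro y hy
      rcases hx with ⟨v, rfl⟩ | ⟨v, rfl⟩
      · rw [← R.X_neg]; exact ⟨(P y hy).1 v, (P y hy).1 (-v)⟩
      · rw [← R.Y_neg]; exact ⟨(P y hy).2 v, (P y hy).2 (-v)⟩
    | one => intro y hy; rw [inv_one, one_mul]; exact ⟨hy, hy⟩
    | mul a b _ _ ha hb =>
      intro y hy
      refine ⟨?_, ?_⟩
      · rw [mul_assoc]; exact (ha _ (hb y hy).1).1
      · rw [mul_inv_rev, mul_assoc]; exact (hb _ (ha y hy).2).2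
    | inv a _ ha => intro y hy; rw [inv_inv]; exact ⟨(ha y hy).2, (ha y hy).1⟩
  have := (key 1 (Or.inl ⟨0, 1, one_ne_zero, by rw [R.X_zero, R.h_one, one_mul]⟩)).1
  rwa [mul_one] at this

section module

variable {V : Type*} [AddCommGroup V] [Module F V] (φ : Γ →* (V ≃ₗ[F] V)) {e1 e2 : V}
    (hX1 : ∀ a, φ (X a) e1 = e1) (hX2 : ∀ a, φ (X a) e2 = e2 + a • e1)
    (hY1 : ∀ a, φ (Y a) e1 = e1 + a • e2) (hY2 : ∀ a, φ (Y a) e2 = e2)

include hX1 hX2 hY1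

lemma n_e1 {t : F} (ht : t ≠ 0) : φ (R.n t) e1 = (-t⁻¹) • e2 := by
  have hmulv : ∀ (a b : Γ) (v : V), φ (a * b) v = φ a (φ b v) := fun a b v => by rw [map_mul]; rfl
  unfold n
  rw [hmulv, hmulv, hX1, hY1, map_add, map_smul, hX1, hX2, smul_add, smul_smul]
  have : -t⁻¹ * t = -1 := by field_simp
  rw [this]; module

include hY2 in
lemma n_e2 {t : F} (ht : t ≠ 0) : φ (R.n t) e2 = t • e1 := by
  have hmulv : ∀ (a b : Γ) (v : V), φ (a * b) v = φ a (φ b v) := fun a b v => by rw [map_mul]; rfl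
  unfold n
  rw [hmulv, hmulv, hX2, map_add, map_smul, hY2, hY1, map_add, map_smul, map_add, map_smul, hX1, hX2]
  have k : t * t⁻¹ = 1 := mul_inv_cancel₀ ht
  linear_combination (norm := module) (-k) • (e2 + t • e1)

include hY2 in
lemma h_e1 {t : F} (ht : t ≠ 0) : φ (R.h t) e1 = t • e1 := by
  have hmulv : ∀ (a b : Γ) (v : V), φ (a * b) v = φ a (φ b v) := fun a b v => by rw [map_mul]; rfl
  unfold h
  rw [hmulv, R.n_e1 φ hX1 hX2 hY1 (neg_ne_zero.2 one_ne_zero), map_smul, R.n_e2 φ hX1 hX2 hY1 hY2 ht, smul_smul, inv_neg,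
    inv_one, neg_neg, one_mul]

include hY2 in
lemma h_e2 {t : F} (ht : t ≠ 0) : φ (R.h t) e2 = t⁻¹ • e2 := by
  have hmulv : ∀ (a b : Γ) (v : V), φ (a * b) v = φ a (φ b v) := fun a b v => by rw [map_mul]; rfl
  unfold h
  rw [hmulv, R.n_e2 φ hX1 hX2 hY1 hY2 (neg_ne_zero.2 one_ne_zero), map_smul, R.n_e1 φ hX1 hX2 hY1 ht, smul_smul,
    neg_mul_neg, one_mul]

end module

/-- injectivity of the map to `SL 2`, in terms of an action on a module -/
theorem inj1 [Finite F] {V : Type*} [AddCommGroup V] [Module F V] (φ : Γ →* (V ≃ₗ[F] V)) {e1 e2 : V}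
    (hli : ∀ a b : F, a • e1 + b • e2 = 0 → a = 0 ∧ b = 0)
    (hX1 : ∀ a, φ (X a) e1 = e1) (hX2 : ∀ a, φ (X a) e2 = e2 + a • e1)
    (hY1 : ∀ a, φ (Y a) e1 = e1 + a • e2) (hY2 : ∀ a, φ (Y a) e2 = e2) {g : Γ} (hg : g ∈ R.S)
    (h2 : φ g e2 = e2) (h1 : ∃ c : F, φ g e1 = c • e1) : g = 1 := by
  have hmulv : ∀ (a b : Γ) (v : V), φ (a * b) v = φ a (φ b v) := fun a b v => by rw [map_mul]; rfl
  have hn1 : ∀ t : F, t ≠ 0 → φ (R.n t) e1 = (-t⁻¹) • e2 := by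
    intro t ht
    unfold n
    rw [hmulv, hmulv, hX1, hY1, map_add, map_smul, hX1, hX2, smul_add, smul_smul]
    have : -t⁻¹ * t = -1 := by field_simp
    rw [this]; module
  have hn2 : ∀ t : F, t ≠ 0 → φ (R.n t) e2 = t • e1 := by
    intro t ht
    unfold n
    rw [hmulv, hmulv, hX2, map_add, map_smul, hY2, hY1, map_add, map_smul, map_add, map_smul, hX1, hX2]
    have k : t * t⁻¹ = 1 := mul_inv_cancel₀ ht
    linear_combination (norm := module) (-k) • (e2 + t • e1)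
  have hh1 : ∀ t : F, t ≠ 0 → φ (R.h t) e1 = t • e1 := by
    intro t ht
    unfold h
    rw [hmulv, hn1 _ (neg_ne_zero.2 one_ne_zero), map_smul, hn2 t ht, smul_smul, inv_neg, inv_one, neg_neg, one_mul]
  have hh2 : ∀ t : F, t ≠ 0 → φ (R.h t) e2 = t⁻¹ • e2 := by
    intro t ht
    unfold h
    rw [hmulv, hn2 _ (neg_ne_zero.2 one_ne_zero), map_smul, hn1 t ht, smul_smul, neg_mul_neg, one_mul]
  have hXc : ∀ (a c : F), φ (X a) (c • e1) = c • e1 := fun a c => by rw [map_smul, hX1]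
  rcases R.bruhat hg with ⟨a, t, ht, rfl⟩ | ⟨a, t, b, ht, rfl⟩
  · rw [hmulv, hh2 t ht, map_smul, hX2, smul_add, smul_smul] at h2
    have h3 := hli (t⁻¹ * a) (t⁻¹ - 1) (by rw [sub_smul, one_smul]; linear_combination (norm := module) h2)
    have h4 : t = 1 := by
      have := sub_eq_zero.1 h3.2
      exact inv_eq_one.1 this
    have h5 : a = 0 := (mul_eq_zero.1 h3.1).resolve_left (inv_ne_zero ht)
    rw [h4, h5, R.X_zero, R.h_one, one_mul]
  · exfalso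
    obtain ⟨c, hc⟩ := h1
    rw [hmulv, hX1, hmulv, hn1 1 one_ne_zero, map_smul, hmulv, hh2 t ht, map_smul, hX2] at hc
    have h3 := hli ((-(1 : F)⁻¹) * t⁻¹ * a - c) ((-(1 : F)⁻¹) * t⁻¹) (by linear_combination (norm := module) hc)
    have h4 := h3.2
    rw [inv_one, neg_one_mul, neg_eq_zero] at h4
    exact inv_ne_zero ht h4

end R1

end Cfsg.Agent.Mult
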