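import Cfsg.Agent.Stb.SpRel
import Cfsg.Agent.Stb.RankOne

set_option autoImplicit false

/-!
Steinberg relations of type `C` over a finite field: injectivity of the map to the symplectic group.
-/

namespace Cfsg.Agent.Stb

open Subgroup
open Cfsg.Agent.Mult (R1)
open scoped commutatorElement

variable {I F Γ : Type*} [InvolutiveNeg I] [DecidableEq I] [Fintype I] [Field F] [Group Γ]
  {ε : I → F} {y : I → I → F → Γ} (R : SpR ε y) {ρ : Γ →* ((I → F) ≃ₗ[F] (I → F))} (A : SpAct ε y ρ)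

section rank1

include R A

lemma X_e1 {i j : I} (hij : i ≠ -j) (a : F) : ρ (y i j (ε j * a)) (ee i) = ee i := by
  rw [act_ee R A hij, if_neg hij, if_neg (fun e => ne' R.ne i e.1)]; simp

lemma X_e2 {i j : I} (hij : i ≠ -j) (a : F) : ρ (y i j (ε j * a)) (ee (-j)) = ee (-j) + a • ee i := by
  rw [act_ee R A hij, if_pos rfl, if_neg (fun e => e.2 (neg_inj.1 e.1).symm)]
  have : ε j * a * ε j = a := by linear_combination a * R.eps j
  rw [this]; simp

lemma Y_e2 {i j : I} (hij : i ≠ -j) (a : F) : ρ (y (-i) (-j) (ε (-i) * a)) (ee (-j)) = ee (-j) := by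
  have hmij : -i ≠ - -j := fun e => hij (neg_inj.1 e)
  rw [act_ee R A hmij, if_neg (by rw [neg_neg]; exact R.ne j), if_neg (fun e => hij (by rw [e.1, neg_neg]))]; simp

lemma Y_e1 {i j : I} (hij : i ≠ -j) (a : F) : ρ (y (-i) (-j) (ε (-i) * a)) (ee i) = ee i + a • ee (-j) := by
  have hmij : -i ≠ - -j := fun e => hij (neg_inj.1 e)
  rw [act_ee R A hmij]
  have e1 : ε (-i) * a * ε (-i) = a := by linear_combination a * R.eps (-i)
  by_cases h : i = j
  · subst h
    rw [if_pos (neg_neg i).symm, if_neg (fun e => e.2 rfl), e1]; simp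
  · rw [if_neg (by rw [neg_neg]; exact h), if_pos ⟨(neg_neg i).symm, fun e => h (neg_inj.1 e)⟩, e1]; simp

lemma li {i j : I} (hij : i ≠ -j) (a b : F) (h : a • ee (F := F) i + b • ee (-j) = 0) : a = 0 ∧ b = 0 := by
  have h1 := congrFun h i
  have h2 := congrFun h (-j)
  simp only [Pi.add_apply, Pi.smul_apply, ee_apply, smul_eq_mul, Pi.zero_apply, if_neg hij, if_neg (Ne.symm hij), if_true,
    mul_zero, mul_one, add_zero, zero_add] at h1 h2
  exact ⟨h1, h2⟩

lemma m_mem {i j : I} (hij : i ≠ -j) {t : F} (ht : t ≠ 0) :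
    y i j (ε j * t) * y (-i) (-j) (ε (-i) * -t⁻¹) * y i j (ε j * t) ∈ MM y ρ i j := by
  have hmij : -i ≠ - -j := fun e => hij (neg_inj.1 e)
  have hε : ∀ i, ε i ≠ 0 := fun i h0 => by have := R.eps i; rw [h0] at this; simp at this
  refine ⟨mul_mem (mul_mem (mem_sup_left (SpR.y_mem _ _ _)) (mem_sup_right (SpR.y_mem _ _ _))) (mem_sup_left (SpR.y_mem _ _ _)), ?_⟩
  have h1 := n_swap R A hmij (a := ε (-i) * -t⁻¹) (mul_ne_zero (hε _) (neg_ne_zero.2 (inv_ne_zero ht)))
  rw [neg_neg, neg_neg] at h1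
  have e : ε (-i) * ε (-j) * (ε (-i) * -t⁻¹)⁻¹ = ε j * t := by
    have h2 := hε (-i)
    rw [mul_inv, inv_neg, inv_inv, R.eps_neg j]
    field_simp
  rw [e] at h1
  intro p
  obtain ⟨c, hc⟩ := h1 p
  rw [rf_negneg' R.ne hij] at hc
  exact ⟨c, hc⟩

/-- the rank one relations -/
theorem r1 {i j : I} (hij : i ≠ -j) : R1 (fun a => y i j (ε j * a)) (fun a => y (-i) (-j) (ε (-i) * a)) := by
  have ne := R.ne
  have hmij : -i ≠ - -j := fun e => hij (neg_inj.1 e)
  have hε : ∀ i, ε i ≠ 0 := fun i h0 => by have := R.eps i; rw [h0] at this; simp at this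
  obtain ⟨rfi, rfj⟩ := rf_self1 hij
  have X1 := X_e1 R A hij
  have X2 := X_e2 R A hij
  have Y1 := Y_e1 R A hij
  have Y2 := Y_e2 R A hij
  have hm1 : ∀ t : F, t ≠ 0 → ρ (y i j (ε j * t) * y (-i) (-j) (ε (-i) * -t⁻¹) * y i j (ε j * t)) (ee i) = (-t⁻¹) • ee (-j) := by
    intro t ht
    rw [rho_mul A, rho_mul A, X1, Y1, map_add, map_smul, X1, X2, smul_add, smul_smul]
    have : -t⁻¹ * t = -1 := by field_simp
    rw [this]; module
  have hm2 : ∀ t : F, t ≠ 0 → ρ (y i j (ε j * t) * y (-i) (-j) (ε (-i) * -t⁻¹) * y i j (ε j * t)) (ee (-j)) = t • ee i := by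
    intro t ht
    rw [rho_mul A, rho_mul A, X2, map_add, map_smul, Y2, Y1, map_add, map_smul, map_add, map_smul, X1, X2]
    have k : t * t⁻¹ = 1 := mul_inv_cancel₀ ht
    linear_combination (norm := module) (-k) • (ee (-j) + t • ee i)
  refine ⟨fun t u => ?_, fun t u => ?_, fun t v ht => ?_, fun t v ht => ?_⟩
  · simp only [mul_add]; exact R.add hij _ _
  · simp only [mul_add]; exact R.add hmij _ _
  · have hm := m_mem R A hij ht
    set m := y i j (ε j * t) * y (-i) (-j) (ε (-i) * -t⁻¹) * y i j (ε j * t) with hmdef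
    have h1 := M_X R A hij hm.1 hm.2 hij (SpR.y_mem (y := y) i j (ε j * v))
    rw [rfi, rfj, R.com.Xs] at h1
    obtain ⟨w, hw⟩ := (R.mem_X hmij).1 h1
    have e1 : m * y i j (ε j * v) = y (-i) (-j) w * m := by rw [hw]; group
    have e2 := congrArg (fun g => ρ g (ee (-j))) e1
    simp only [rho_mul A] at e2
    have e3 : w = ε (-i) * (ε (-i) * w) := by linear_combination (-w) * R.eps (-i)
    rw [X2, map_add, map_smul, hm2 t ht, hm1 t ht, map_smul, e3, Y1] at e2
    have h4 := li R A hij 0 (v * -t⁻¹ - t * (ε (-i) * w)) (by linear_combination (norm := module) e2)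
    have h5 : ε (-i) * w = -(t⁻¹ ^ 2 * v) := by
      have h6 := h4.2
      field_simp at h6 ⊢
      linear_combination -h6
    change m * y i j (ε j * v) = y (-i) (-j) (ε (-i) * -(t⁻¹ ^ 2 * v)) * m
    rw [e1, ← h5, ← e3]
  · have hm := m_mem R A hij ht
    set m := y i j (ε j * t) * y (-i) (-j) (ε (-i) * -t⁻¹) * y i j (ε j * t) with hmdef
    have h1 := M_X R A hij hm.1 hm.2 hmij (SpR.y_mem (y := y) (-i) (-j) (ε (-i) * v))
    rw [rf_neg ne _ _ _ hij, rf_neg ne _ _ _ hij, rfi, rfj, neg_neg, neg_neg, R.com.Xs] at h1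
    obtain ⟨w, hw⟩ := (R.mem_X hij).1 h1
    have e1 : m * y (-i) (-j) (ε (-i) * v) = y i j w * m := by rw [hw]; group
    have e2 := congrArg (fun g => ρ g (ee i)) e1
    simp only [rho_mul A] at e2
    have e3 : w = ε j * (ε j * w) := by linear_combination (-w) * R.eps j
    rw [Y1, map_add, map_smul, hm1 t ht, hm2 t ht, map_smul, e3, X2] at e2
    have h4 := li R A hij (v * t + t⁻¹ * (ε j * w)) 0 (by linear_combination (norm := module) e2)
    have h5 : ε j * w = -(t ^ 2 * v) := by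
      have h6 := h4.1
      field_simp at h6 ⊢
      linear_combination h6
    change m * y (-i) (-j) (ε (-i) * v) = y i j (ε j * -(t ^ 2 * v)) * m
    rw [e1, ← h5, ← e3]

lemma S_eq {i j : I} (hij : i ≠ -j) : XG y i j ⊔ XG y (-i) (-j) ≤ (r1 R A hij).S := by
  have hmij : -i ≠ - -j := fun e => hij (neg_inj.1 e)
  refine sup_le ?_ ?_
  · intro x hx
    obtain ⟨a, rfl⟩ := (R.mem_X hij).1 hx
    have := (r1 R A hij).X_mem (ε j * a)
    have e : ε j * (ε j * a) = a := by linear_combination a * R.eps j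
    rwa [e] at this
  · intro x hx
    obtain ⟨a, rfl⟩ := (R.mem_X hmij).1 hx
    have := (r1 R A hij).Y_mem (ε (-i) * a)
    have e : ε (-i) * (ε (-i) * a) = a := by linear_combination a * R.eps (-i)
    rwa [e] at this

/-- injectivity on rank one groups -/
lemma inj_r1 [Finite F] {i j : I} (hij : i ≠ -j) {g : Γ} (hg : g ∈ XG y i j ⊔ XG y (-i) (-j))
    (h2 : ρ g (ee (-j)) = ee (-j)) (h1 : ∃ c : F, ρ g (ee i) = c • ee i) : g = 1 :=
  (r1 R A hij).inj1 ρ (fun a b h => li R A hij a b h) (X_e1 R A hij) (X_e2 R A hij) (Y_e1 R A hij) (Y_e2 R A hij)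
    (S_eq R A hij hg) h2 h1

/-- the rank one group of a long root fixes the other basis vectors -/
lemma long_fix {i p : I} (h1 : p ≠ i) (h2 : p ≠ -i) {g : Γ} (hg : g ∈ XG y i i ⊔ XG y (-i) (-i)) : ρ g (ee p) = ee p := by
  have hmi : -i ≠ - -i := by rw [neg_neg]; exact R.ne i
  have key : ∀ x ∈ XG y i i ⊔ XG y (-i) (-i), ρ x (ee p) = ee p := by
    have : XG y i i ⊔ XG y (-i) (-i) ≤
        { carrier := {x | ρ x (ee p) = ee p}, one_mem' := by simp,
          mul_mem' := fun {a b} ha hb => by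
            simp only [Set.mem_setOf_eq] at *; rw [rho_mul A, hb, ha]
          inv_mem' := fun {a} ha => by
            simp only [Set.mem_setOf_eq] at *
            have := swap_inv' (ρ := ρ) (g := a) (c := 1) (p := p) (q := p) (by rw [one_smul]; exact ha)
            rwa [inv_one, one_smul] at this } := by
      refine sup_le ?_ ?_
      · intro x hx
        obtain ⟨a, rfl⟩ := (R.mem_X (ne' R.ne i)).1 hx
        change ρ _ (ee p) = ee p
        rw [act_ee R A (ne' R.ne i), if_neg h2, if_neg (fun e => e.2 rfl)]; simp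
      · intro x hx
        obtain ⟨a, rfl⟩ := (R.mem_X hmi).1 hx
        change ρ _ (ee p) = ee p
        rw [act_ee R A hmi, neg_neg, if_neg h1, if_neg (fun e => e.2 rfl)]; simp
    exact this
  exact key g hg

/-- diagonal elements of the rank one group of a long root -/
def DG (y : I → I → F → Γ) (ρ : Γ →* ((I → F) ≃ₗ[F] (I → F))) (i : I) : Subgroup Γ :=
  (XG y i i ⊔ XG y (-i) (-i)) ⊓ (St ρ i ⊓ St ρ (-i))

omit R A in
lemma DG_neg (i : I) : DG y ρ (-i) = DG y ρ i := by
  unfold DG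
  rw [neg_neg, sup_comm (XG y (-i) (-i)), inf_comm (St ρ (-i))]

/-- existence of diagonal elements -/
lemma exists_h [Finite F] (i : I) {t : F} (ht : t ≠ 0) : ∃ h ∈ DG y ρ i, h ∈ (cls R A).T ∧ ρ h (ee i) = t • ee i := by
  have hii := ne' R.ne i
  set R' := r1 R A hii with hR'
  have hm : ∀ {t : F}, t ≠ 0 → R'.n t ∈ MM y ρ i i := fun ht => m_mem R A hii ht
  have hn1 : (-1 : F) ≠ 0 := neg_ne_zero.2 one_ne_zero
  have e1 := R'.h_e1 ρ (X_e1 R A hii) (X_e2 R A hii) (Y_e1 R A hii) (Y_e2 R A hii) ht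
  have e2 := R'.h_e2 ρ (X_e1 R A hii) (X_e2 R A hii) (Y_e1 R A hii) (Y_e2 R A hii) ht
  exact ⟨R'.h t, ⟨mul_mem (hm ht).1 (hm hn1).1, ⟨t, e1⟩, ⟨t⁻¹, e2⟩⟩, (cls R A).mul_mem_T hii (hm ht) (hm hn1), e1⟩

/-- the torus is generated by the tori of the long roots -/
lemma T_le [Finite F] : (cls R A).T ≤ ⨆ i, DG y ρ i := by
  have ne := R.ne
  unfold Cls.T
  rw [closure_le]
  rintro _ ⟨i, j, hij, m, hm, m', hm', rfl⟩
  have hmij : -i ≠ - -j := fun e => hij (neg_inj.1 e)
  obtain ⟨rfi, rfj⟩ := rf_self1 hij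
  have hSt : ∀ o, m * m' ∈ St ρ o := fun o => T_St R A o ((cls R A).mul_mem_T hij hm hm')
  by_cases hij2 : i = j
  · subst hij2
    exact mem_iSup_of_mem i ⟨mul_mem hm.1 hm'.1, hSt i, hSt (-i)⟩
  · have hji2 : j ≠ i := Ne.symm hij2
    have hji : j ≠ -i := fun e => hij (by rw [e, neg_neg])
    have hm2 := (cls R A).M_inv i j hij m' hm'
    set n := m'⁻¹ with hn
    obtain ⟨c, hc⟩ := hm.2 (-j)
    obtain ⟨d, hd⟩ := hm2.2 (-j)
    rw [rf_neg ne _ _ _ hij, rfj, neg_neg] at hc hd
    have hc0 := swap_ne hc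
    have hd0 := swap_ne hd
    obtain ⟨h, hhD, hhT, hh⟩ := exists_h R A i (div_ne_zero hc0 hd0)
    have hnj1 : -j ≠ i := fun e => hij e.symm
    have hnj2 : -j ≠ -i := fun e => hij2 (neg_inj.1 e).symm
    have hfix : ρ h (ee (-j)) = ee (-j) := long_fix R A hnj1 hnj2 hhD.1
    have hfix' : ρ h⁻¹ (ee (-j)) = ee (-j) := long_fix R A hnj1 hnj2 (inv_mem hhD.1)
    -- `h n h⁻¹ = m`
    have hX : h * n * h⁻¹ ∈ XG y i j ⊔ XG y (-i) (-j) := by
      have : XG y i j ⊔ XG y (-i) (-j) ≤ (XG y i j ⊔ XG y (-i) (-j)).comap (MulAut.conj h).toMonoidHom := by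
        refine sup_le ?_ ?_
        · intro x hx; rw [mem_comap]; exact mem_sup_left ((cls R A).T_X hij hhT x hx)
        · intro x hx; rw [mem_comap]; exact mem_sup_right ((cls R A).T_X hmij hhT x hx)
      exact this hm2.1
    have key : m⁻¹ * (h * n * h⁻¹) = 1 := by
      refine inj_r1 R A hij (mul_mem (inv_mem hm.1) hX) ?_ ?_
      · rw [rho_mul A, rho_mul A, rho_mul A, hfix', hd, map_smul, hh, smul_smul, map_smul]
        have e1 := swap_inv' hc
        rw [e1, smul_smul]
        have : d * (c / d) * c⁻¹ = 1 := by field_simp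
        rw [this, one_smul]
      · obtain ⟨a1, h1⟩ : ∃ a : F, ρ h⁻¹ (ee i) = a • ee i := ⟨(c / d)⁻¹, swap_inv' hh⟩
        obtain ⟨a2, h2⟩ := hm2.2 i
        rw [rfi] at h2
        obtain ⟨a3, h3⟩ := (swap_inv ne hij hm.2) (-j)
        rw [rf_neg ne _ _ _ hij, rfj, neg_neg] at h3
        refine ⟨a1 * a2 * a3, ?_⟩
        rw [rho_mul A, rho_mul A, rho_mul A, h1]
        simp only [map_smul, h2, hfix, h3, smul_smul]
    have key2 : m = h * n * h⁻¹ := (inv_mul_eq_one.1 key)
    have hm'n : m' = n⁻¹ := by rw [hn, inv_inv]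
    have e3 : m * m' = h * (n * h⁻¹ * n⁻¹) := by rw [key2, hm'n]; group
    rw [e3]
    have hk1 : n * h⁻¹ * n⁻¹ ∈ XG y j j ⊔ XG y (-j) (-j) := by
      have : XG y i i ⊔ XG y (-i) (-i) ≤ (XG y j j ⊔ XG y (-j) (-j)).comap (MulAut.conj n).toMonoidHom := by
        refine sup_le ?_ ?_
        · intro x hx; rw [mem_comap]
          have := M_X R A hij hm2.1 hm2.2 (ne' ne i) hx
          rw [rfi] at this
          exact mem_sup_right this
        · intro x hx; rw [mem_comap]
          have := M_X R A hij hm2.1 hm2.2 (k := -i) (l := -i) (by rw [neg_neg]; exact ne i) hx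
          rw [rf_neg ne _ _ _ hij, rfi, neg_neg] at this
          exact mem_sup_left this
      exact this (inv_mem hhD.1)
    have hkSt : ∀ o, n * h⁻¹ * n⁻¹ ∈ St ρ o := by
      intro o
      have : n * h⁻¹ * n⁻¹ = h⁻¹ * (m * m') := by rw [e3]; group
      rw [this]
      exact mul_mem (inv_mem (T_St R A o hhT)) (hSt o)
    exact mul_mem (mem_iSup_of_mem i hhD) (mem_iSup_of_mem j ⟨hk1, hkSt j, hkSt (-j)⟩)

/-- commutation of the tori of different long roots -/
lemma DG_comm {i k : I} (h1 : k ≠ i) (h2 : k ≠ -i) {a b : Γ} (ha : a ∈ DG y ρ k) (hb : b ∈ DG y ρ i) : a * b = b * a := by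
  have ne := R.ne
  have key : XG y k k ⊔ XG y (-k) (-k) ≤ centralizer (XG y i i ⊔ XG y (-i) (-i) : Subgroup Γ) := by
    have h3 : ∀ {k i : I}, k ≠ i → k ≠ -i → XG y k k ≤ centralizer (XG y i i : Set Γ) := by
      intro k i h1 h2 x hx
      rw [mem_centralizer_iff]
      intro z hz
      obtain ⟨a, rfl⟩ := (R.mem_X (ne' ne k)).1 hx
      obtain ⟨b, rfl⟩ := (R.mem_X (ne' ne i)).1 hz
      have h4 : i ≠ -k := fun e => h2 (by rw [e, neg_neg])
      have := R.c4 (ne' ne k) (ne' ne i) h4 h4 h4 h4 a b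
      rw [commutatorElement_eq_one_iff_mul_comm] at this
      exact this.symm
    have h4 : ∀ {A B C : Subgroup Γ}, A ≤ centralizer (B : Set Γ) → A ≤ centralizer (C : Set Γ) →
        A ≤ centralizer (B ⊔ C : Subgroup Γ) := by
      intro A B C hB hC
      rw [le_centralizer_iff] at hB hC ⊢
      exact sup_le hB hC
    have h5 : k ≠ - -i := by rw [neg_neg]; exact h1
    have h6 : -k ≠ i := fun e => h2 (by rw [← e, neg_neg])
    have h7 : -k ≠ -i := fun e => h1 (neg_inj.1 e)
    have h8 : -k ≠ - -i := by rw [neg_neg]; exact h6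
    exact sup_le (h4 (h3 h1 h2) (h3 h2 h5)) (h4 (h3 h6 h7) (h3 h7 h8))
  have := key ha.1
  rw [mem_centralizer_iff] at this
  exact (this b hb.1).symm

lemma DS_inj [Finite F] (S : Finset I) : ∀ τ ∈ ⨆ i ∈ S, DG y ρ i, ρ τ = 1 → τ = 1 := by
  have ne := R.ne
  induction S using Finset.induction_on with
  | empty => intro τ hτ _; simpa using hτ
  | insert k S hk ih =>
    intro τ hτ h
    rw [Finset.iSup_insert] at hτ
    by_cases hS : k ∈ S ∨ -k ∈ S
    · have hle : DG y ρ k ≤ ⨆ i ∈ S, DG y ρ i := by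
        rcases hS with h1 | h1
        · exact absurd h1 hk
        · rw [← DG_neg]; exact le_biSup (DG y ρ) h1
      rw [sup_eq_right.2 hle] at hτ
      exact ih τ hτ h
    · push Not at hS
      have hne : ∀ i ∈ S, k ≠ i ∧ k ≠ -i := fun i hi =>
        ⟨fun e => hS.1 (e ▸ hi), fun e => hS.2 (by rw [e, neg_neg]; exact hi)⟩
      have hcomm : ∀ a ∈ DG y ρ k, ∀ b ∈ ⨆ i ∈ S, DG y ρ i, a * b * a⁻¹ ∈ ⨆ i ∈ S, DG y ρ i := by
        intro a ha b hb
        have : (⨆ i ∈ S, DG y ρ i) ≤ centralizer {a} := by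
          refine iSup₂_le fun i hi x hx => ?_
          rw [mem_centralizer_iff]
          rintro _ rfl
          exact DG_comm R A (hne i hi).1 (hne i hi).2 ha hx
        have h1 := mem_centralizer_iff.1 (this hb) a rfl
        rw [h1, mul_inv_cancel_right]; exact hb
      obtain ⟨a, ha, b, hb, rfl⟩ := Cfsg.Agent.ChevGrp.mem_sup_of_normalizes hcomm hτ
      have hbfix : ∀ p, (p = k ∨ p = -k) → ρ b (ee p) = ee p := by
        intro p hp
        have : (⨆ i ∈ S, DG y ρ i) ≤
            { carrier := {x | ρ x (ee p) = ee p}, one_mem' := by simp,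
              mul_mem' := fun {a b} ha hb => by
                simp only [Set.mem_setOf_eq] at *; rw [rho_mul A, hb, ha]
              inv_mem' := fun {a} ha => by
                simp only [Set.mem_setOf_eq] at *
                have := swap_inv' (ρ := ρ) (g := a) (c := 1) (p := p) (q := p) (by rw [one_smul]; exact ha)
                rwa [inv_one, one_smul] at this } := by
          refine iSup₂_le fun i hi x hx => ?_
          change ρ x (ee p) = ee p
          obtain ⟨h1, h2⟩ := hne i hi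
          rcases hp with rfl | rfl
          · exact long_fix R A h1 h2 hx.1
          · exact long_fix R A (fun e => h2 (by rw [← e, neg_neg])) (fun e => h1 (neg_inj.1 e)) hx.1
        exact this hb
      have hafix : ∀ p, (p = k ∨ p = -k) → ρ a (ee p) = ee p := by
        intro p hp
        have h1 : ρ (a * b) (ee p) = ee p := by rw [h]; rfl
        rwa [rho_mul A, hbfix p hp] at h1
      have ha1 : a = 1 := inj_r1 R A (ne' ne k) ha.1 (hafix _ (Or.inr rfl)) ⟨1, by rw [one_smul]; exact hafix _ (Or.inl rfl)⟩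
      subst ha1
      rw [one_mul] at h ⊢
      exact ih b hb h

/-- **injectivity**: a product of root elements with the relations of type `C` which acts trivially is trivial -/
theorem sp_inj [Finite F] {g : Γ} (hg : g ∈ gp (XG y) (fun _ _ => True)) (h : ρ g = 1) : g = 1 := by
  have h1 : g ∈ (cls R A).T := mem_T R A (mem_sup_left hg) (fun o => ⟨1, by rw [h, one_smul]; rfl⟩)
  have h2 := T_le R A h1
  refine DS_inj R A Finset.univ g ?_ h
  simpa using h2

end rank1

end Cfsg.Agent.Stb
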