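import Cfsg.Agent.Stb.SpInj
import Cfsg.Agent.ClassSp.Simple

set_option autoImplicit false

/-!
The root elements of `Matrix.symplecticGroup l F`, their relations, and the theorem: a group generated by elements with the
Steinberg relations of type `C` over a finite field, mapping to the root elements, is the symplectic group.
-/

namespace Cfsg.Agent.Stb

open Subgroup Matrix
open Cfsg.Agent.ClassSp
open scoped commutatorElement

/-- the involution of the index set -/
@[reducible] def sumNeg (l : Type*) : InvolutiveNeg (l ⊕ l) where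
  neg := Sum.swap
  neg_neg := Sum.swap_swap

attribute [local instance] sumNeg

section basic

variable {l : Type*} [Fintype l] [DecidableEq l] {F : Type*} [Field F]

/-- signs -/
def eps (F : Type*) [Field F] {l : Type*} : l ⊕ l → F := Sum.elim (fun _ => 1) (fun _ => -1)

omit [Fintype l] [DecidableEq l] in
lemma swap_ne' (i : l ⊕ l) : -i ≠ i := by
  rcases i with i | i
  · change Sum.inr i ≠ Sum.inl i; simp
  · change Sum.inl i ≠ Sum.inr i; simp

omit [Fintype l] [DecidableEq l] in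
lemma eps_sq (i : l ⊕ l) : eps F i * eps F i = 1 := by rcases i with i | i <;> simp [eps]

omit [Fintype l] [DecidableEq l] in
lemma eps_neg' (i : l ⊕ l) : eps F (-i) = -eps F i := by
  rcases i with i | i
  · change eps F (Sum.inr i) = _; simp [eps]
  · change eps F (Sum.inl i) = _; simp [eps]

omit [DecidableEq l] in
lemma sf_eq_sum (u v : l ⊕ l → F) : sf u v = ∑ p, eps F p * (u p * v (-p)) := by
  rw [Fintype.sum_sum_type, ← Finset.sum_add_distrib]
  unfold sf
  refine Finset.sum_congr rfl fun i _ => ?_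
  change _ = eps F (Sum.inl i) * (u (Sum.inl i) * v (Sum.inr i)) + eps F (Sum.inr i) * (u (Sum.inr i) * v (Sum.inl i))
  simp [eps]; ring

lemma sf_ee (i : l ⊕ l) (v : l ⊕ l → F) : sf (ee i) v = eps F i * v (-i) := by
  rcases i with i | i
  · rw [ee, sf_single_inl_left]
    change _ = eps F (Sum.inl i) * v (Sum.inr i); simp [eps]
  · rw [ee, sf_single_inr_left]
    change _ = eps F (Sum.inr i) * v (Sum.inl i); simp [eps]

lemma sf_ee_ee {i j : l ⊕ l} (h : j ≠ -i) : sf (R := F) (ee i) (ee j) = 0 := by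
  rw [sf_ee, ee_apply, if_neg (fun e => h e.symm), mul_zero]

lemma sf_ee_neg (i : l ⊕ l) : sf (R := F) (ee i) (ee (-i)) = eps F i := by
  rw [sf_ee, ee_apply, if_pos rfl, mul_one]

/-- the linear map `v ↦ v + a (f(w, v) u + d f(u, v) w)` -/
noncomputable def lLin (u w : l ⊕ l → F) (d a : F) : (l ⊕ l → F) →ₗ[F] (l ⊕ l → F) where
  toFun v := v + a • (sf w v • u + (d * sf u v) • w)
  map_add' x y := by rw [sf_add_right, sf_add_right]; module
  map_smul' c x := by rw [sf_smul_right, sf_smul_right]; simp only [RingHom.id_apply]; module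

/-- root element -/
noncomputable def rt (u w : l ⊕ l → F) (d a : F) (h : (d = 1 ∧ sf u w = 0) ∨ (d = 0 ∧ u = w)) : symplecticGroup l F :=
  ofLin (lLin u w d a) (by
    intro x y
    rcases h with ⟨rfl, h⟩ | ⟨rfl, rfl⟩
    · have h' : sf w u = 0 := by rw [sf_swap, h, neg_zero]
      simp only [lLin, LinearMap.coe_mk, AddHom.coe_mk, sf_add_left, sf_add_right, sf_smul_left,
        sf_smul_right, sf_self, h, h']
      rw [sf_swap x u, sf_swap x w]; ring
    · simp only [lLin, LinearMap.coe_mk, AddHom.coe_mk, sf_add_left, sf_add_right, sf_smul_left,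
        sf_smul_right, sf_self]
      rw [sf_swap x u]; ring)

lemma rt_mulVec (u w : l ⊕ l → F) (d a : F) (h : (d = 1 ∧ sf u w = 0) ∨ (d = 0 ∧ u = w)) (v : l ⊕ l → F) :
    (rt u w d a h : Matrix (l ⊕ l) (l ⊕ l) F) *ᵥ v = v + a • (sf w v • u + (d * sf u v) • w) := by
  rw [rt, ofLin_mulVec]; rfl

/-- the root elements of the symplectic group -/
noncomputable def ye (i j : l ⊕ l) (a : F) : symplecticGroup l F :=
  if h : i ≠ -j then rt (ee i) (ee j) (if i = j then 0 else 1) a (by
    by_cases hij : i = j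
    · right; rw [if_pos hij, hij]; exact ⟨rfl, rfl⟩
    · left; rw [if_neg hij]; exact ⟨rfl, sf_ee_ee (fun e => h (by rw [e, neg_neg]))⟩) else 1

lemma ye_mulVec {i j : l ⊕ l} (h : i ≠ -j) (a : F) (v : l ⊕ l → F) :
    (ye i j a : Matrix (l ⊕ l) (l ⊕ l) F) *ᵥ v =
      v + a • (sf (ee j) v • ee i + ((if i = j then 0 else 1) * sf (ee i) v) • ee j) := by
  unfold ye
  rw [dif_pos h, rt_mulVec]

lemma ye_short {i j : l ⊕ l} (h : i ≠ -j) (hij : i ≠ j) (a : F) (v : l ⊕ l → F) :
    (ye i j a : Matrix (l ⊕ l) (l ⊕ l) F) *ᵥ v = v + a • (sf (ee j) v • ee i + sf (ee i) v • ee j) := by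
  rw [ye_mulVec h, if_neg hij, one_mul]

lemma ye_long (i : l ⊕ l) (a : F) (v : l ⊕ l → F) :
    (ye i i a : Matrix (l ⊕ l) (l ⊕ l) F) *ᵥ v = v + a • (sf (ee i) v • ee i) := by
  rw [ye_mulVec (Ne.symm (swap_ne' i)), if_pos rfl, zero_mul, zero_smul, add_zero]

lemma comm_of_mul {G : Type*} [Group G] {a b c : G} (h : a * b = c * (b * a)) : ⁅a, b⁆ = c := by
  rw [commutatorElement_def, h]; group

/-- the Steinberg relations in the symplectic group -/
theorem spr (h2 : 2 ≤ Fintype.card l) : SpR (eps F) (ye : l ⊕ l → l ⊕ l → F → symplecticGroup l F) where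
  ne := swap_ne'
  two := by
    intro i
    have : ∀ a : l, ∃ b : l, b ≠ a := by
      intro a
      haveI : Nontrivial l := Fintype.one_lt_card_iff_nontrivial.1 (by omega)
      exact exists_ne a
    rcases i with a | a
    · obtain ⟨b, hb⟩ := this a
      refine ⟨Sum.inl b, by simpa using hb, ?_⟩
      change Sum.inl b ≠ Sum.inr a; simp
    · obtain ⟨b, hb⟩ := this a
      refine ⟨Sum.inr b, by simpa using hb, ?_⟩
      change Sum.inr b ≠ Sum.inl a; simp
  eps := eps_sq
  eps_neg := eps_neg'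
  symm i j a := by
    by_cases h : i = -j
    · have h' : j = -i := by rw [h, neg_neg]
      unfold ye
      rw [dif_neg (by simpa using h), dif_neg (by simpa using h')]
    · have h' : j ≠ -i := fun e => h (by rw [e, neg_neg])
      by_cases hij : i = j
      · rw [hij]
      · apply ext_vec; intro v
        rw [ye_short h hij, ye_short h' (Ne.symm hij)]; module
  add {i j} h a b := by
    apply ext_vec; intro v
    have h' : j ≠ -i := fun e => h (by rw [e, neg_neg])
    rw [mul_mulVec]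
    simp only [ye_mulVec h, sf_add_right, sf_smul_right, sf_self, sf_ee_ee h, sf_ee_ee h']
    module
  c1 {i j k} h1 h2 h3 h4 h5 h6 a b := by
    have h2' : j ≠ -i := fun e => h2 (by rw [e, neg_neg])
    have h4' : k ≠ -j := fun e => h4 (by rw [e, neg_neg])
    have h6' : k ≠ -i := fun e => h6 (by rw [e, neg_neg])
    have h7 : -j ≠ -k := fun e => h3 (neg_inj.1 e)
    have h8 : -j ≠ -i := fun e => h1 (neg_inj.1 e).symm
    have s1 : sf (R := F) (ee j) (ee (-j)) = eps F j := sf_ee_neg j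
    have s1' : sf (R := F) (ee (-j)) (ee j) = -eps F j := by rw [sf_swap, s1]
    apply comm_of_mul
    apply ext_vec; intro v
    simp only [mul_mulVec, ye_short h2 h1, ye_short h7 (Ne.symm h4'), ye_short h6 h5, sf_add_right, sf_smul_right, sf_self, s1, s1',
      sf_ee_ee h2, sf_ee_ee h2', sf_ee_ee h4, sf_ee_ee h4', sf_ee_ee h6, sf_ee_ee h6', sf_ee_ee h7, sf_ee_ee h8,
      sf_ee_ee (show k ≠ - -j by rw [neg_neg]; exact h3.symm), sf_ee_ee (show -j ≠ -k from h7),
      sf_ee_ee (show i ≠ - -j by rw [neg_neg]; exact h1)]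
    module
  c2 {i j} h1 h2 a b := by
    have h2' : j ≠ -i := fun e => h2 (by rw [e, neg_neg])
    have h8 : -j ≠ -i := fun e => h1 (neg_inj.1 e).symm
    have s1 : sf (R := F) (ee j) (ee (-j)) = eps F j := sf_ee_neg j
    have s1' : sf (R := F) (ee (-j)) (ee j) = -eps F j := by rw [sf_swap, s1]
    apply comm_of_mul
    apply ext_vec; intro v
    simp only [mul_mulVec, ye_short h2 h1, ye_short h8 (Ne.symm h2), ye_long, sf_add_right, sf_smul_right, sf_self, s1, s1',
      sf_ee_ee h2, sf_ee_ee h2', sf_ee_ee h8, sf_ee_ee (show i ≠ - -j by rw [neg_neg]; exact h1)]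
    module
  c3 {i j} h1 h2 a b := by
    have h2' : j ≠ -i := fun e => h2 (by rw [e, neg_neg])
    have h8 : -i ≠ -j := fun e => h1 (neg_inj.1 e)
    have s1 : sf (R := F) (ee i) (ee (-i)) = eps F i := sf_ee_neg i
    have s1' : sf (R := F) (ee (-i)) (ee i) = -eps F i := by rw [sf_swap, s1]
    have s2 : eps F i * eps F i = 1 := eps_sq i
    apply comm_of_mul
    apply ext_vec; intro v
    simp only [mul_mulVec, ye_short h2 h1, ye_short h8 (Ne.symm h2'), ye_long, sf_add_right, sf_smul_right, sf_self, s1, s1',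
      sf_ee_ee h2, sf_ee_ee h2', sf_ee_ee h8, sf_ee_ee (show j ≠ - -i by rw [neg_neg]; exact h1.symm)]
    linear_combination (norm := module) (a * b ^ 2) • (-s2) • (sf (ee j) v • ee (F := F) j)
  c4 {i j k l} h1 h2 h3 h4 h5 h6 a b := by
    have h3' : i ≠ -k := fun e => h3 (by rw [e, neg_neg])
    have h4' : j ≠ -k := fun e => h4 (by rw [e, neg_neg])
    have h5' : i ≠ -l := fun e => h5 (by rw [e, neg_neg])
    have h6' : j ≠ -l := fun e => h6 (by rw [e, neg_neg])
    apply comm_of_mul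
    rw [one_mul]
    apply ext_vec; intro v
    simp only [mul_mulVec, ye_mulVec h1, ye_mulVec h2, sf_add_right, sf_smul_right, sf_ee_ee h3, sf_ee_ee h4, sf_ee_ee h5,
      sf_ee_ee h6, sf_ee_ee h3', sf_ee_ee h4', sf_ee_ee h5', sf_ee_ee h6']
    module

/-- the natural representation -/
noncomputable def natRep : symplecticGroup l F →* ((l ⊕ l → F) ≃ₗ[F] (l ⊕ l → F)) where
  toFun g :=
    { toFun := fun v => (g : Matrix (l ⊕ l) (l ⊕ l) F) *ᵥ v
      map_add' := fun _ _ => Matrix.mulVec_add _ _ _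
      map_smul' := fun _ _ => Matrix.mulVec_smul _ _ _
      invFun := fun v => ((g⁻¹ : symplecticGroup l F) : Matrix (l ⊕ l) (l ⊕ l) F) *ᵥ v
      left_inv := fun v => inv_mulVec_mulVec g v
      right_inv := fun v => mulVec_inv_mulVec g v }
  map_one' := by ext1 v; exact one_mulVec' v
  map_mul' g h := by ext1 v; exact mul_mulVec g h v

lemma natRep_apply (g : symplecticGroup l F) (v : l ⊕ l → F) :
    natRep g v = (g : Matrix (l ⊕ l) (l ⊕ l) F) *ᵥ v := rfl

lemma natRep_injective : Function.Injective (natRep : symplecticGroup l F →* _) := by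
  intro g h e
  apply ext_vec
  intro v
  exact congrArg (fun f : (l ⊕ l → F) ≃ₗ[F] (l ⊕ l → F) => f v) e

lemma ye_apply {i j : l ⊕ l} (h : i ≠ -j) (a : F) (v : l ⊕ l → F) (p : l ⊕ l) :
    ((ye i j a : Matrix (l ⊕ l) (l ⊕ l) F) *ᵥ v) p =
      v p + (if p = i then a * eps F j * v (-j) else 0) + (if p = j ∧ i ≠ j then a * eps F i * v (-i) else 0) := by
  rw [ye_mulVec h]
  simp only [Pi.add_apply, Pi.smul_apply, smul_eq_mul, sf_ee, ee_apply]
  by_cases h3 : i = j
  · subst h3
    by_cases h1 : p = i <;> simp [h1]; ring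
  · by_cases h1 : p = i
    · subst h1; simp [h3]; ring
    · by_cases h2 : p = j
      · subst h2; simp [h3, h1]; ring
      · simp [h1, h2]

/-- root elements with the relations, mapping to the root elements of the symplectic group -/
lemma spAct {Γ : Type*} [Group Γ] {y : l ⊕ l → l ⊕ l → F → Γ} (σ : Γ →* symplecticGroup l F)
    (hσ : ∀ i j, i ≠ -j → ∀ a, σ (y i j a) = ye i j a) : SpAct (eps F) y (natRep.comp σ) where
  act i j h a v p := by
    rw [MonoidHom.comp_apply, natRep_apply, hσ i j h, ye_apply h]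
  form g v w := by
    simp only [MonoidHom.comp_apply, natRep_apply]
    rw [← sf_eq_sum, ← sf_eq_sum, sf_mulVec]

/-- **Steinberg**, type `C`: injectivity on the group generated by the root elements -/
theorem sp_inj' {Γ : Type*} [Group Γ] [Finite F] {y : l ⊕ l → l ⊕ l → F → Γ} (R : SpR (eps F) y)
    (σ : Γ →* symplecticGroup l F) (hσ : ∀ i j, i ≠ -j → ∀ a, σ (y i j a) = ye i j a) {g : Γ}
    (hg : g ∈ closure {g | ∃ i j, i ≠ -j ∧ ∃ a, y i j a = g}) (h : σ g = 1) : g = 1 := by
  refine sp_inj R (spAct σ hσ) (g := g) ?_ ?_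
  · refine (?_ : closure {g | ∃ i j, i ≠ -j ∧ ∃ a, y i j a = g} ≤ _) hg
    rw [closure_le]
    rintro _ ⟨i, j, hij, a, rfl⟩
    exact X_le_gp hij trivial (SpR.y_mem _ _ _)
  · rw [MonoidHom.comp_apply, h, map_one]

/-- the group generated by the root elements -/
def yeG (l : Type*) [Fintype l] [DecidableEq l] (F : Type*) [Field F] : Subgroup (symplecticGroup l F) :=
  closure {g | ∃ i j, i ≠ -j ∧ ∃ a, ye i j a = g}

lemma ye_mem {i j : l ⊕ l} (h : i ≠ -j) (a : F) : ye i j a ∈ yeG l F := subset_closure ⟨i, j, h, a, rfl⟩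

/-- clearing coordinates -/
lemma clear (i : l ⊕ l) (S : Finset (l ⊕ l)) : ∀ v : l ⊕ l → F, v i ≠ 0 → (∀ k ∈ S, k ≠ i ∧ k ≠ -i) →
    ∃ g ∈ yeG l F, ((g : Matrix (l ⊕ l) (l ⊕ l) F) *ᵥ v) i = v i ∧
      (∀ k ∈ S, ((g : Matrix (l ⊕ l) (l ⊕ l) F) *ᵥ v) k = 0) ∧
      (∀ k, k ∉ S → k ≠ -i → ((g : Matrix (l ⊕ l) (l ⊕ l) F) *ᵥ v) k = v k) := by
  induction S using Finset.induction_on with
  | empty => intro v _ _; exact ⟨1, one_mem _, by rw [one_mulVec'], by simp, fun k _ _ => by rw [one_mulVec']⟩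
  | insert k S hk ih =>
    intro v hv hS
    obtain ⟨hki, hki'⟩ := hS k (Finset.mem_insert_self _ _)
    obtain ⟨g, hg, h1, h2, h3⟩ := ih v hv (fun s hs => hS s (Finset.mem_insert_of_mem hs))
    set w := (g : Matrix (l ⊕ l) (l ⊕ l) F) *ᵥ v with hw
    have hε : eps F (-i) ≠ 0 := fun h0 => by have := eps_sq (F := F) (-i); rw [h0] at this; simp at this
    have hne : k ≠ - -i := by rw [neg_neg]; exact hki
    set a := -(w k) / (eps F (-i) * w i) with ha
    have hwi : w i ≠ 0 := by rw [h1]; exact hv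
    refine ⟨ye k (-i) a * g, mul_mem (ye_mem hne a) hg, ?_, ?_, ?_⟩
    · rw [mul_mulVec, ye_apply hne, if_neg (Ne.symm hki), if_neg (fun e => swap_ne' i e.1.symm), ← hw, h1]; ring
    · intro k' hk'
      rw [mul_mulVec, ye_apply hne, neg_neg]
      by_cases h : k' = k
      · subst h
        rw [if_pos rfl, if_neg (fun e => hki' e.1), ha]
        field_simp
        ring
      · have hk'S : k' ∈ S := (Finset.mem_insert.1 hk').resolve_left h
        rw [if_neg h, if_neg (fun e => (hS k' hk').2 e.1), ← hw, h2 k' hk'S]; ring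
    · intro k' hk' hk'i
      rw [Finset.mem_insert, not_or] at hk'
      rw [mul_mulVec, ye_apply hne, if_neg hk'.1, if_neg (fun e => hk'i e.1), ← hw, h3 k' hk'.2 hk'i]; ring

/-- every vector with nonzero `i`-th coordinate is moved to a multiple of a basis vector -/
lemma to_basis (i : l ⊕ l) (v : l ⊕ l → F) (hv : v i ≠ 0) :
    ∃ g ∈ yeG l F, (g : Matrix (l ⊕ l) (l ⊕ l) F) *ᵥ v = v i • ee i := by
  obtain ⟨g, hg, h1, h2, h3⟩ := clear i (Finset.univ.filter fun k => k ≠ i ∧ k ≠ -i) v hv (fun k hk => by simpa using hk)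
  set w := (g : Matrix (l ⊕ l) (l ⊕ l) F) *ᵥ v with hw
  have hε : eps F (-i) ≠ 0 := fun h0 => by have := eps_sq (F := F) (-i); rw [h0] at this; simp at this
  have hne : -i ≠ - -i := fun e => swap_ne' i (by rw [neg_neg] at e; exact e)
  set a := -(w (-i)) / (eps F (-i) * w i) with ha
  have hwi : w i ≠ 0 := by rw [h1]; exact hv
  refine ⟨ye (-i) (-i) a * g, mul_mem (ye_mem hne a) hg, ?_⟩
  funext k
  have hf : ¬ (k = -i ∧ -i ≠ -i) := fun e => e.2 rfl
  rw [mul_mulVec, ye_apply hne, neg_neg, Pi.smul_apply, ee_apply, if_neg hf, add_zero, ← hw, smul_eq_mul]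
  by_cases h : k = i
  · subst h
    rw [if_neg (Ne.symm (swap_ne' k)), if_pos rfl, h1]; ring
  · by_cases h' : k = -i
    · subst h'
      rw [if_pos rfl, if_neg h, ha]
      field_simp
      ring
    · rw [if_neg h', if_neg h, h2 k (by simp [h, h'])]; ring

/-- transitivity on nonzero vectors -/
lemma trans_vec (h2 : 2 ≤ Fintype.card l) {v w : l ⊕ l → F} (hv : v ≠ 0) (hw : w ≠ 0) :
    ∃ g ∈ yeG l F, (g : Matrix (l ⊕ l) (l ⊕ l) F) *ᵥ v = w := by
  let r : (l ⊕ l → F) → (l ⊕ l → F) → Prop := fun v w => ∃ g ∈ yeG l F, (g : Matrix (l ⊕ l) (l ⊕ l) F) *ᵥ v = w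
  have rsymm : ∀ {v w}, r v w → r w v := by
    rintro v w ⟨g, hg, rfl⟩
    exact ⟨g⁻¹, inv_mem hg, inv_mulVec_mulVec g v⟩
  have rtrans : ∀ {u v w}, r u v → r v w → r u w := by
    rintro u v w ⟨g, hg, rfl⟩ ⟨h, hh, rfl⟩
    exact ⟨h * g, mul_mem hh hg, mul_mulVec h g u⟩
  -- multiples of different basis vectors
  have hbb : ∀ (i k : l ⊕ l), k ≠ i → k ≠ -i → ∀ a b : F, a ≠ 0 → b ≠ 0 → r (a • ee i) (b • ee k) := by
    intro i k h1 h2 a b ha hb
    have f1 : (a • ee i + b • ee k : l ⊕ l → F) i = a := by simp [ee_apply, Ne.symm h1]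
    have f2 : (a • ee i + b • ee k : l ⊕ l → F) k = b := by simp [ee_apply, h1]
    have e1 : r (a • ee i + b • ee k) (a • ee i) := by
      have := to_basis (F := F) i (a • ee i + b • ee k) (by rw [f1]; exact ha)
      rwa [f1] at this
    have e2 : r (a • ee i + b • ee k) (b • ee k) := by
      have := to_basis (F := F) k (a • ee i + b • ee k) (by rw [f2]; exact hb)
      rwa [f2] at this
    exact rtrans (rsymm e1) e2
  have hall : ∀ (i k : l ⊕ l) (a b : F), a ≠ 0 → b ≠ 0 → r (a • ee i) (b • ee k) := by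
    intro i k a b ha hb
    by_cases h : k ≠ i ∧ k ≠ -i
    · exact hbb i k h.1 h.2 a b ha hb
    · obtain ⟨j, hj1, hj2⟩ := (spr (F := F) h2).two i
      have hj3 : k ≠ j ∧ k ≠ -j := by
        by_cases hk : k = i
        · subst hk
          exact ⟨hj1.symm, fun e => hj2 (by rw [e, neg_neg])⟩
        · have hk' : k = -i := by
            by_contra hk'
            exact h ⟨hk, hk'⟩
          subst hk'
          exact ⟨hj2.symm, fun e => hj1 (neg_inj.1 e).symm⟩
      exact rtrans (hbb i j hj1 hj2 a 1 ha one_ne_zero) (hbb j k hj3.1 hj3.2 1 b one_ne_zero hb)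
  obtain ⟨i, hi⟩ := Function.ne_iff.1 hv
  obtain ⟨k, hk⟩ := Function.ne_iff.1 hw
  have h1 : r v (v i • ee i) := to_basis i v hi
  have h3 : r w (w k • ee k) := to_basis k w hk
  exact rtrans h1 (rtrans (hall i k _ _ hi hk) (rsymm h3))

/-- the symplectic group is generated by its root elements -/
theorem yeG_eq_top (h2 : 2 ≤ Fintype.card l) : yeG l F = ⊤ := by
  have h1 : tvGroup l F ≤ yeG l F := by
    unfold tvGroup
    rw [closure_le]
    rintro _ ⟨w, c, rfl⟩
    by_cases hw : w = 0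
    · have : tv w c = 1 := by
        apply ext_vec; intro v
        rw [tv_mulVec, one_mulVec', hw]; simp
      rw [this]; exact one_mem _
    · haveI : Nonempty l := Fintype.card_pos_iff.1 (by omega)
      obtain ⟨a⟩ := ‹Nonempty l›
      obtain ⟨g, hg, hgw⟩ := trans_vec h2 (ee_ne (F := F) (Sum.inl a)) hw
      have e1 : tv w c = g * tv (ee (Sum.inl a)) c * g⁻¹ := by rw [tv_conj, hgw]
      have e2 : tv (ee (Sum.inl a)) c = ye (Sum.inl a) (Sum.inl a) (-c) := by
        apply ext_vec; intro v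
        rw [tv_mulVec, ye_long, sf_swap v]; module
      rw [e1, e2]
      exact mul_mem (mul_mem hg (ye_mem (Ne.symm (swap_ne' _)) _)) (inv_mem hg)
  rw [tvGroup_eq_top] at h1
  exact top_le_iff.1 h1

/-- **Steinberg**: for a finite field and `n ≥ 2` the Steinberg relations of type `C n` present the symplectic group. -/
theorem sp_bijective (h2 : 2 ≤ Fintype.card l) [Finite F] {Γ : Type*} [Group Γ] {y : l ⊕ l → l ⊕ l → F → Γ}
    (R : SpR (eps F) y) (hgen : closure {g | ∃ i j, i ≠ -j ∧ ∃ a, y i j a = g} = ⊤)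
    (σ : Γ →* symplecticGroup l F) (hσ : ∀ i j, i ≠ -j → ∀ a, σ (y i j a) = ye i j a) : Function.Bijective σ := by
  refine ⟨?_, ?_⟩
  · rw [injective_iff_map_eq_one]
    intro g hg
    exact sp_inj' R σ hσ (by rw [hgen]; exact mem_top g) hg
  · rw [← MonoidHom.range_eq_top, ← top_le_iff, ← yeG_eq_top h2]
    unfold yeG
    rw [closure_le]
    rintro _ ⟨i, j, h, a, rfl⟩
    exact ⟨y i j a, hσ i j h a⟩

end basic

end Cfsg.Agent.Stb
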