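import Cfsg.Agent.Stb.Cls

set_option autoImplicit false

/-!
Steinberg relations of type `C` over a field: a group with such relations which acts as the symplectic group
has kernel contained in the torus.
-/

namespace Cfsg.Agent.Stb

open Subgroup
open scoped commutatorElement

variable {I F Γ : Type*} [InvolutiveNeg I] [DecidableEq I] [Fintype I] [Field F] [Group Γ]

/-- Steinberg relations of type `C`; the root `e_i + e_j` belongs to the unordered pair `{i, j}`, `i ≠ -j`. -/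
structure SpR (ε : I → F) (y : I → I → F → Γ) : Prop where
  ne : ∀ i : I, -i ≠ i
  two : ∀ i : I, ∃ j, j ≠ i ∧ j ≠ -i
  eps : ∀ i, ε i * ε i = 1
  eps_neg : ∀ i, ε (-i) = -ε i
  symm : ∀ i j a, y i j a = y j i a
  add : ∀ {i j}, i ≠ -j → ∀ a b, y i j (a + b) = y i j a * y i j b
  c1 : ∀ {i j k : I}, i ≠ j → i ≠ -j → j ≠ k → j ≠ -k → i ≠ k → i ≠ -k → ∀ a b, ⁅y i j a, y (-j) k b⁆ = y i k (ε j * a * b)
  c2 : ∀ {i j : I}, i ≠ j → i ≠ -j → ∀ a b, ⁅y i j a, y (-j) i b⁆ = y i i (2 * ε j * a * b)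
  c3 : ∀ {i j : I}, i ≠ j → i ≠ -j → ∀ a b, ⁅y i i a, y (-i) j b⁆ = y i j (ε i * a * b) * y j j (-(a * b ^ 2))
  c4 : ∀ {i j k l : I}, i ≠ -j → k ≠ -l → k ≠ -i → k ≠ -j → l ≠ -i → l ≠ -j → ∀ a b, ⁅y i j a, y k l b⁆ = 1

/-- the natural action -/
structure SpAct (ε : I → F) (y : I → I → F → Γ) (ρ : Γ →* ((I → F) ≃ₗ[F] (I → F))) : Prop where
  act : ∀ i j, i ≠ -j → ∀ a v p, ρ (y i j a) v p =
    v p + (if p = i then a * ε j * v (-j) else 0) + (if p = j ∧ i ≠ j then a * ε i * v (-i) else 0)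
  form : ∀ g v w, ∑ p, ε p * (ρ g v p * ρ g w (-p)) = ∑ p, ε p * (v p * w (-p))

/-- the root subgroups -/
def XG (y : I → I → F → Γ) (i j : I) : Subgroup Γ := closure (Set.range (y i j))

/-- basis vectors -/
def ee (p : I) : I → F := Pi.single p 1

namespace SpR

variable {ε : I → F} {y : I → I → F → Γ} (R : SpR ε y)

include R

omit [Fintype I] [DecidableEq I] in
lemma zero {i j : I} (h : i ≠ -j) : y i j 0 = 1 := by
  have := R.add h 0 0
  rw [add_zero] at this
  exact mul_eq_left.1 this.symm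

omit [Fintype I] [DecidableEq I] in
lemma neg {i j : I} (h : i ≠ -j) (a : F) : y i j (-a) = (y i j a)⁻¹ := by
  rw [eq_inv_iff_mul_eq_one, ← R.add h, neg_add_cancel, R.zero h]

omit [Fintype I] [DecidableEq I] in
lemma mem_X {i j : I} (h : i ≠ -j) {g : Γ} : g ∈ XG y i j ↔ ∃ a, y i j a = g := by
  constructor
  · intro hg
    unfold XG at hg
    induction hg using closure_induction with
    | mem x hx => exact hx
    | one => exact ⟨0, R.zero h⟩
    | mul a b _ _ ha hb =>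
      obtain ⟨a, rfl⟩ := ha
      obtain ⟨b, rfl⟩ := hb
      exact ⟨a + b, R.add h a b⟩
    | inv a _ ha =>
      obtain ⟨a, rfl⟩ := ha
      exact ⟨-a, R.neg h a⟩
  · rintro ⟨a, rfl⟩
    exact subset_closure ⟨a, rfl⟩

omit [Fintype I] [DecidableEq I] R in
lemma y_mem (i j : I) (a : F) : y i j a ∈ XG y i j := subset_closure ⟨a, rfl⟩

omit [Fintype I] in
theorem com : Com (XG y) where
  ne := R.ne
  Xs i j := by
    unfold XG
    congr 1
    ext g
    simp only [Set.mem_range, R.symm i j]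
  c1 {i j k} h1 h2 h3 h4 h5 h6 x hx z hz := by
    obtain ⟨a, rfl⟩ := (R.mem_X h2).1 hx
    obtain ⟨b, rfl⟩ := (R.mem_X (fun e => h3 (neg_inj.1 e))).1 hz
    rw [R.c1 h1 h2 h3 h4 h5 h6]
    exact y_mem _ _ _
  c2 {i j} h1 h2 x hx z hz := by
    obtain ⟨a, rfl⟩ := (R.mem_X h2).1 hx
    obtain ⟨b, rfl⟩ := (R.mem_X (fun e => h1 (neg_inj.1 e).symm)).1 hz
    rw [R.c2 h1 h2]
    exact y_mem _ _ _
  c3 {i j} h1 h2 x hx z hz := by
    obtain ⟨a, rfl⟩ := (R.mem_X (ne' R.ne i)).1 hx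
    obtain ⟨b, rfl⟩ := (R.mem_X (fun e => h1 (neg_inj.1 e))).1 hz
    rw [R.c3 h1 h2]
    exact mul_mem (mem_sup_left (y_mem _ _ _)) (mem_sup_right (y_mem _ _ _))
  c4 {i j k l} h1 h2 h3 h4 h5 h6 _ x hx z hz := by
    obtain ⟨a, rfl⟩ := (R.mem_X h1).1 hx
    obtain ⟨b, rfl⟩ := (R.mem_X h2).1 hz
    exact R.c4 h1 h2 h3 h4 h5 h6 a b
  c5 {i j} h1 h2 x hx z hz := by
    obtain ⟨a, rfl⟩ := (R.mem_X (ne' R.ne i)).1 hx
    obtain ⟨b, rfl⟩ := (R.mem_X (ne' R.ne j)).1 hz
    have h3 : j ≠ -i := fun e => h2 (by rw [e, neg_neg])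
    rw [R.c4 (ne' R.ne i) (ne' R.ne j) h3 h3 h3 h3]
    exact one_mem _

end SpR

section act

variable {ε : I → F} {y : I → I → F → Γ} (R : SpR ε y) {ρ : Γ →* ((I → F) ≃ₗ[F] (I → F))} (A : SpAct ε y ρ)

omit [InvolutiveNeg I] [Fintype I] in
lemma ee_apply (p q : I) : ee (F := F) p q = if q = p then 1 else 0 := by
  unfold ee; rw [Pi.single_apply]

include R A in
lemma act_ee {i j : I} (h : i ≠ -j) (a : F) (p : I) : ρ (y i j a) (ee p) =
    ee p + (if p = -j then a * ε j else 0) • ee i + (if p = -i ∧ i ≠ j then a * ε i else 0) • ee j := by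
  have b1 : ∀ q : I, (-q = p) ↔ (p = -q) := fun q => eq_comm
  funext q
  rw [A.act i j h]
  simp only [Pi.add_apply, Pi.smul_apply, ee_apply, smul_eq_mul, b1]
  by_cases h1 : q = i <;> by_cases h2 : q = j <;> by_cases h3 : p = -i <;> by_cases h4 : p = -j <;> by_cases h5 : i = j <;>
    simp_all

include A in
/-- coordinates not touched by the root groups -/
lemma coord_fix {P : I → I → Prop} {p : I} (hP : ∀ k l, k ≠ -l → P k l → k ≠ p ∧ l ≠ p) (R : SpR ε y) {g : Γ}
    (hg : g ∈ gp (XG y) P) (v : I → F) : ρ g v p = v p := by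
  unfold gp at hg
  induction hg using closure_induction generalizing v with
  | mem x hx =>
    obtain ⟨k, l, hkl, h, hx⟩ := hx
    obtain ⟨a, rfl⟩ := (R.mem_X hkl).1 hx
    obtain ⟨h1, h2⟩ := hP k l hkl h
    rw [A.act k l hkl, if_neg (Ne.symm h1), if_neg (fun e => h2 e.1.symm), add_zero, add_zero]
  | one => simp
  | mul a b _ _ ha hb => rw [map_mul]; simp only [LinearEquiv.mul_apply]; rw [ha, hb]
  | inv a _ ha =>
    have := ha (ρ a⁻¹ v)
    rw [← LinearEquiv.mul_apply, ← map_mul, mul_inv_cancel, map_one, LinearEquiv.coe_one, id] at this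
    exact this.symm

include A in
lemma rho_mul (g h : Γ) (v : I → F) : ρ (g * h) v = ρ g (ρ h v) := by rw [map_mul]; rfl

include R A in
/-- a column element which fixes the basis vector is trivial -/
lemma inj_Y {i : I} {t : Γ} (ht : t ∈ gp (XG y) (Yp Finset.univ i)) (h : ρ t (ee i) = ee i) : t = 1 := by
  have ne := R.ne
  have hε : ∀ i, ε i ≠ 0 := fun i h0 => by have := R.eps i; rw [h0] at this; simp at this
  rcases R.com.dich (J := Finset.univ) (fun _ _ => Finset.mem_univ _) (Finset.mem_univ i) ht with h1 | ⟨j, -, h1, h2, x, hx, hx1, t0, ht0, rfl⟩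
  · obtain ⟨a, rfl⟩ := (R.mem_X (by rw [neg_neg]; exact ne i)).1 h1
    have h3 := congrFun h (-i)
    rw [A.act _ _ (by rw [neg_neg]; exact ne i)] at h3
    simp only [ee_apply, neg_neg, if_true, ne_eq, not_true_eq_false, and_false, if_false, add_zero, mul_one] at h3
    have h4 : a * ε (-i) = 0 := by
      have := add_left_cancel (a := (if -i = i then (1 : F) else 0)) (b := a * ε (-i)) (c := 0) (by rw [add_zero]; exact h3)
      exact this
    have h5 : a = 0 := (mul_eq_zero.1 h4).resolve_right (hε _)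
    rw [h5, R.zero (by rw [neg_neg]; exact ne i)]
  · exfalso
    have hji : j ≠ - -i := by rw [neg_neg]; exact h1
    obtain ⟨a, rfl⟩ := (R.mem_X hji).1 hx
    have k1 : ρ t0 (ee i) i = 1 := by
      rw [coord_fix A (p := i) ?_ R ht0 (ee i), ee_apply, if_pos rfl]
      intro k l hkl hP
      rcases cf_lt ne hkl hP.2.2.1 with e | e
      · refine ⟨by rw [e]; exact ne i, fun f => hkl ?_⟩
        rw [e, f]
      · refine ⟨fun f => hkl ?_, by rw [e]; exact ne i⟩
        rw [e, f, neg_neg]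
    have k2 : ρ t0 (ee i) j = 0 := by
      rw [coord_fix A (p := j) ?_ R ht0 (ee i), ee_apply, if_neg h1]
      intro k l hkl hP
      obtain ⟨-, -, q1, q2⟩ := hP
      by_contra hcon
      have h3 : 0 < cf k l j := by
        rcases cf_cases ne hkl j with e | e | e | e | e | e | e
        · omega
        · exfalso; apply hcon; rw [e.2.1, e.2.2]; exact ⟨ne j, ne j⟩
        · omega
        · omega
        · exfalso; apply hcon; rw [e.2.1]; exact ⟨ne j, e.2.2.1⟩
        · exfalso; apply hcon; rw [e.2.1]; exact ⟨e.2.2.1, ne j⟩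
        · exfalso; apply hcon; exact ⟨e.2.1, e.2.2.2.1⟩
      rcases q2 with q2 | q2
      · rcases cf_pm ne hkl h2 q1 h3 with ⟨e, f⟩ | ⟨e, f⟩
        · rw [e, f] at q2
          rw [cf_comm, (cf_self ne h1 h2).1] at q2; omega
        · rw [e, f, (cf_self ne h1 h2).1] at q2; omega
      · omega
    have h3 := congrFun h j
    rw [rho_mul A, A.act _ _ hji, k2, neg_neg, k1, if_pos rfl, if_neg (fun e => h2 e.1), ee_apply, if_neg h1, zero_add,
      add_zero, mul_one] at h3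
    have h5 : a = 0 := (mul_eq_zero.1 h3).resolve_right (hε _)
    exact hx1 (by rw [h5, R.zero hji])

/-- predicate -/
def QP (i j k l : I) : Prop := cf k l i < 0 ∨ (k = j ∧ l = j)

include R A in
/-- injectivity on the groups generated by a column and one long root group of the Levi factor -/
lemma inj_Y' {i j : I} (h1 : j ≠ i) (h2 : j ≠ -i) {g : Γ}
    (hg : g ∈ gp (XG y) (QP i j)) (h : ρ g = 1) : g = 1 := by
  have ne := R.ne
  have hle : gp (XG y) (QP i j) ≤ XG y j j ⊔ gp (XG y) (Yp Finset.univ i) := by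
    refine gp_le fun k l hkl h => ?_
    rcases h with h | ⟨rfl, rfl⟩
    · exact (X_le_gp (P := Yp Finset.univ i) hkl ⟨Finset.mem_univ _, Finset.mem_univ _, h⟩).trans le_sup_right
    · exact le_sup_left
  have hcf : cf j j i = 0 := by
    have h3 : j ≠ -i := h2
    unfold cf; simp [h1, h3]
  have hnorm : ∀ x ∈ XG y j j, ∀ z ∈ gp (XG y) (Yp Finset.univ i), x * z * x⁻¹ ∈ gp (XG y) (Yp Finset.univ i) := by
    intro x hx
    refine R.com.normP (P := fun k l => k = j ∧ l = j) ?_ x (X_le_gp (ne' ne j) ⟨rfl, rfl⟩ hx)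
    rintro _ _ _ ⟨rfl, rfl⟩ k' l' hkl' ⟨_, _, b2⟩
    refine ⟨fun hop => ?_, fun p q hpq => ?_⟩
    · have e1 := Opp.cf ne hop i
      omega
    · refine ⟨Finset.mem_univ _, Finset.mem_univ _, ?_⟩
      rcases hpq.2 with e | e | e | ⟨-, -, e⟩
      all_goals
        have e1 := e i
        omega
  obtain ⟨z, hz, t, ht, rfl⟩ := Cfsg.Agent.ChevGrp.mem_sup_of_normalizes hnorm (hle hg)
  have hzX : z ∈ gp (XG y) (Yp Finset.univ (-j)) := X_le_gp (ne' ne j) ⟨Finset.mem_univ _, Finset.mem_univ _, by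
    rw [cf_neg]; unfold cf; simp [ne' ne j]⟩ hz
  obtain ⟨a, rfl⟩ := (R.mem_X (ne' ne j)).1 hz
  have hzi : ρ (y j j a) (ee i) = ee i := by
    rw [act_ee R A (ne' ne j), if_neg (fun e => h2 (by rw [e, neg_neg])), if_neg (fun e => e.2 rfl)]
    simp
  have h3 : ρ (y j j a * t) (ee i) = ee i := by rw [h]; rfl
  have ht1 : ρ t (ee i) = ee i := by
    rw [rho_mul A] at h3
    exact (ρ (y j j a)).injective (h3.trans hzi.symm)
  have ht2 := inj_Y R A ht ht1
  subst ht2
  rw [mul_one] at h ⊢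
  exact inj_Y R A hzX (by rw [h]; rfl)

/-- elements inducing the reflection on the basis -/
def Swap (ρ : Γ →* ((I → F) ≃ₗ[F] (I → F))) (i j : I) : Set Γ := {g | ∀ p, ∃ c : F, ρ g (ee p) = c • ee (rf i j p)}

omit [InvolutiveNeg I] in
lemma ext_ee {L L' : (I → F) →ₗ[F] (I → F)} (h : ∀ p, L (ee p) = L' (ee p)) : L = L' := by
  refine (Pi.basisFun F I).ext fun p => ?_
  rw [Pi.basisFun_apply]
  exact h p

include A in
/-- the form on multiples of basis vectors -/
lemma form_ee (g : Γ) {p q r s : I} {c d : F} (h1 : ρ g (ee p) = c • ee r) (h2 : ρ g (ee q) = d • ee s) (hqp : q = -p)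
    (hsr : s = -r) : c * d * ε r = ε p := by
  subst hqp hsr
  have := A.form g (ee p) (ee (-p))
  rw [h1, h2] at this
  simp only [Pi.smul_apply, ee_apply, smul_eq_mul, neg_inj, mul_ite, mul_one, mul_zero, ite_mul, zero_mul, one_mul] at this
  have e1 : ∀ r : I, (∑ x : I, if x = r then (if x = r then ε x * (c * d) else 0) else 0) = ε r * (c * d) := by
    intro r
    rw [Finset.sum_eq_single r]
    · simp
    · intro b _ hb; simp [hb]
    · intro h; exact absurd (Finset.mem_univ _) h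
  have e2 : ∀ r : I, (∑ x : I, if x = r then (if x = r then ε x else 0) else 0) = ε r := by
    intro r
    rw [Finset.sum_eq_single r]
    · simp
    · intro b _ hb; simp [hb]
    · intro h; exact absurd (Finset.mem_univ _) h
  rw [e1, e2] at this
  rw [← this]; ring

include R A in
/-- conjugating root elements by monomial elements -/
lemma swap_conj {i j : I} (hij : i ≠ -j) {m : Γ} (hm : m ∈ Swap ρ i j) {k l : I} (hkl : k ≠ -l) (a : F) :
    ∃ a', ρ (m * y k l a * m⁻¹) = ρ (y (rf i j k) (rf i j l) a') := by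
  have ne := R.ne
  choose c hc using hm
  have hkl' := rf_ne_neg ne hij hkl
  refine ⟨a * c k * c l, ?_⟩
  have key : ρ (m * y k l a) = ρ (y (rf i j k) (rf i j l) (a * c k * c l) * m) := by
    apply LinearEquiv.toLinearMap_injective
    apply ext_ee
    intro p
    change ρ (m * y k l a) (ee p) = ρ (y (rf i j k) (rf i j l) (a * c k * c l) * m) (ee p)
    rw [rho_mul A, rho_mul A, act_ee R A hkl, map_add, map_add, map_smul, map_smul, hc, hc, hc, map_smul,
      act_ee R A hkl']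
    have b1 : (rf i j p = -rf i j l) ↔ (p = -l) := by rw [← rf_neg ne _ _ _ hij, rf_inj ne hij]
    have b2 : (rf i j p = -rf i j k ∧ rf i j k ≠ rf i j l) ↔ (p = -k ∧ k ≠ l) := by
      rw [← rf_neg ne _ _ _ hij, rf_inj ne hij, ne_eq, rf_inj ne hij]
    simp only [b1, b2, smul_add, smul_smul]
    have f1 : ∀ q, c q * c (-q) * ε (rf i j q) = ε q := fun q => form_ee A m (hc q) (hc (-q)) rfl (rf_neg ne _ _ _ hij)
    congr 1
    · congr 1
      by_cases h : p = -l
      · subst h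
        rw [if_pos rfl, if_pos rfl]
        congr 1
        linear_combination (-a * c k) * f1 l
      · rw [if_neg h, if_neg h]; simp
    · by_cases h : p = -k ∧ k ≠ l
      · rw [if_pos h, if_pos h]
        obtain ⟨h, -⟩ := h
        subst h
        congr 1
        linear_combination (-a * c l) * f1 k
      · rw [if_neg h, if_neg h]; simp
  rw [map_mul, key, ← map_mul, mul_inv_cancel_right]

include R A in
lemma transfer {i j : I} (hij : i ≠ -j) {m : Γ} (hm : m ∈ Swap ρ i j) {k l : I} (hkl : k ≠ -l) {P : I → I → Prop}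
    (hP : P (rf i j k) (rf i j l)) (hinj : ∀ g ∈ gp (XG y) P, ρ g = 1 → g = 1) {x : Γ} (hx : x ∈ XG y k l)
    (h : m * x * m⁻¹ ∈ gp (XG y) P) : m * x * m⁻¹ ∈ XG y (rf i j k) (rf i j l) := by
  obtain ⟨a, rfl⟩ := (R.mem_X hkl).1 hx
  obtain ⟨a', ha'⟩ := swap_conj R A hij hm hkl a
  have h1 : y (rf i j k) (rf i j l) a' ∈ XG y (rf i j k) (rf i j l) := SpR.y_mem _ _ _
  have h2 := hinj _ (mul_mem h (inv_mem (X_le_gp (rf_ne_neg R.ne hij hkl) hP h1)))
    (by rw [map_mul, map_inv, ha', mul_inv_cancel])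
  rw [mul_inv_eq_one] at h2
  rw [h2]; exact h1

omit [Fintype I] in
lemma rf_negneg (i j k : I) : rf (-i) (-j) k = if k = -i then j else if k = -j then i else if k = i then -j else if k = j then -i else k := by
  unfold rf; simp only [neg_neg]

omit [Fintype I] in
lemma rf_negneg' (ne : ∀ i : I, -i ≠ i) {i j : I} (hij : i ≠ -j) (k : I) : rf (-i) (-j) k = rf i j k := by
  rw [rf_negneg]
  have h' : j ≠ -i := fun e => hij (by rw [e, neg_neg])
  unfold rf
  by_cases k1 : k = i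
  · subst k1; simp [ne' ne k, hij]
  · by_cases k2 : k = j
    · subst k2; simp [ne' ne k, h', k1]
    · simp [k1, k2]

include R in
lemma norm0 (l : I) : ∀ x ∈ gp (XG y) (fun k' l' => cf k' l' l = 0), ∀ z ∈ gp (XG y) (Yp Finset.univ (-l)),
    x * z * x⁻¹ ∈ gp (XG y) (Yp Finset.univ (-l)) := by
  refine R.com.normP ?_
  rintro k l' hkl a2 k' l'' hkl' ⟨_, _, b2⟩
  rw [cf_neg] at b2
  refine ⟨fun hop => ?_, fun p q hpq => ?_⟩
  · have e1 := Opp.cf R.ne hop l
    omega
  · refine ⟨Finset.mem_univ _, Finset.mem_univ _, ?_⟩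
    rw [cf_neg]
    rcases hpq.2 with e | e | e | ⟨-, -, e⟩
    all_goals
      have e1 := e l
      omega

include R A in
lemma M_A {i j : I} (hij : i ≠ -j) {m : Γ} (hm : m ∈ XG y i j ⊔ XG y (-i) (-j)) (hs : m ∈ Swap ρ i j) {k l : I} (hkl : k ≠ -l)
    (h1 : l ≠ i) (h2 : l ≠ j) (h3 : l ≠ -i) (h4 : l ≠ -j) {x : Γ} (hx : x ∈ XG y k l) :
    m * x * m⁻¹ ∈ XG y (rf i j k) (rf i j l) := by
  have ne := R.ne
  have hl : rf i j l = l := rf_of_ne h1 h2 h3 h4
  have c0 : cf i j l = 0 := by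
    have h5 : i ≠ -l := fun e => h3 (by rw [e, neg_neg])
    have h6 : j ≠ -l := fun e => h4 (by rw [e, neg_neg])
    unfold cf; simp [h1.symm, h2.symm, h5, h6]
  have c1 : cf (-i) (-j) l = 0 := by rw [Opp.cf ne (k := i) (l := j) (Or.inl ⟨rfl, rfl⟩), c0, neg_zero]
  have hm' : m ∈ gp (XG y) (fun k' l' => cf k' l' l = 0) :=
    (sup_le (X_le_gp hij c0) (X_le_gp (fun e => hij (neg_inj.1 e)) c1) : XG y i j ⊔ XG y (-i) (-j) ≤ _) hm
  have hkl2 : ∀ {k}, k ≠ -l → Yp Finset.univ (-l) k l := by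
    intro k hkl
    refine ⟨Finset.mem_univ _, Finset.mem_univ _, ?_⟩
    rw [cf_neg]
    rcases cf_cases ne hkl l with e | e | e | e | e | e | e
    · omega
    · exact absurd e.2.2 (ne' ne l)
    · omega
    · omega
    · exact absurd e.2.1 hkl
    · exact absurd e.2.1 (ne' ne l)
    · exact absurd rfl e.2.2.2.1
  have h5 := norm0 R l m hm' x (X_le_gp hkl (hkl2 hkl) hx)
  refine transfer R A hij hs hkl (P := Yp Finset.univ (-l)) ?_ ?_ hx h5
  · rw [hl]
    have := rf_ne_neg ne hij hkl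
    rw [hl] at this
    exact hkl2 this
  · intro g hg h
    exact inj_Y R A hg (by rw [h]; rfl)

include R A in
lemma M_B1 {i j : I} (hij : i ≠ -j) (hij2 : i ≠ j) {m : Γ} (hm : m ∈ XG y i j ⊔ XG y (-i) (-j)) (hs : m ∈ Swap ρ i j)
    {k l : I} (hkl : k ≠ -l) (h : cf k l i - cf k l j = 2) {x : Γ} (hx : x ∈ XG y k l) :
    m * x * m⁻¹ ∈ XG y (rf i j k) (rf i j l) := by
  have ne := R.ne
  have hji : j ≠ -i := fun e => hij (by rw [e, neg_neg])
  have rfi : rf i j i = -j := by unfold rf; simp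
  have rfj : rf i j j = -i := by rw [rf_comm _ _ _ hij]; unfold rf; simp
  have hnorm : ∀ x ∈ gp (XG y) (fun k' l' => (k' = i ∧ l' = j) ∨ (k' = -i ∧ l' = -j)),
      ∀ z ∈ gp (XG y) (fun k l => cf k l i - cf k l j = 2), x * z * x⁻¹ ∈ gp (XG y) (fun k l => cf k l i - cf k l j = 2) := by
    refine R.com.normP ?_
    intro k l hkl a2 k' l' hkl' b2
    have c0 : cf k l i - cf k l j = 0 ∧ k ≠ l := by
      rcases a2 with ⟨rfl, rfl⟩ | ⟨rfl, rfl⟩
      · refine ⟨?_, hij2⟩
        have h5 : k ≠ -k := ne' ne k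
        unfold cf; simp [hij2, hij2.symm, hij, hji, ne' ne]
      · refine ⟨?_, fun e => hij2 (neg_inj.1 e)⟩
        rw [Opp.cf ne (k := i) (l := j) (Or.inl ⟨rfl, rfl⟩), Opp.cf ne (k := i) (l := j) (Or.inl ⟨rfl, rfl⟩)]
        unfold cf; simp [hij2, hij2.symm, hij, hji, ne' ne]
    refine ⟨fun hop => ?_, fun p q hpq => ?_⟩
    · have e1 := Opp.cf ne hop i
      have e2 := Opp.cf ne hop j
      omega
    · have d1 := cf_bd' ne p q hij2 hij
      rcases hpq.2 with e | e | e | ⟨e0, -, e⟩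
      · have e1 := e i
        have e2 := e j
        omega
      · have e1 := e i
        have e2 := e j
        omega
      · have e1 := e i
        have e2 := e j
        omega
      · exact absurd e0 c0.2
  have hm' : m ∈ gp (XG y) (fun k' l' => (k' = i ∧ l' = j) ∨ (k' = -i ∧ l' = -j)) :=
    (sup_le (X_le_gp hij (Or.inl ⟨rfl, rfl⟩)) (X_le_gp (fun e => hij (neg_inj.1 e)) (Or.inr ⟨rfl, rfl⟩)) :
      XG y i j ⊔ XG y (-i) (-j) ≤ _) hm
  have h5 := hnorm m hm' x (X_le_gp hkl h hx)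
  refine transfer R A hij hs hkl (P := fun k l => cf k l i - cf k l j = 2) ?_ ?_ hx h5
  · show cf (rf i j k) (rf i j l) i - cf (rf i j k) (rf i j l) j = 2
    rw [cf_rf' ne hij, cf_rf' ne hij, rfi, rfj, cf_neg, cf_neg]
    omega
  · intro g hg h
    refine inj_Y' R A (i := -i) (j := -j) (fun e => hij2 (neg_inj.1 e).symm) (by rw [neg_neg]; exact hij.symm) (gp_mono ?_ hg) h
    intro k l hkl h6
    unfold QP
    rw [cf_neg]
    rcases cf_cases ne hkl j with e | e | e | e | e | e | e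
    · have d1 := cf_bd' ne k l hij2 hij
      omega
    · exact Or.inr ⟨e.2.1, e.2.2⟩
    all_goals (left; omega)

omit [Fintype I] in
lemma rf_self1 {i j : I} (hij : i ≠ -j) : rf i j i = -j ∧ rf i j j = -i :=
  ⟨by unfold rf; simp, by rw [rf_comm _ _ _ hij]; unfold rf; simp⟩

include R A in
lemma M_B3 {i j : I} (hij : i ≠ -j) (hij2 : i ≠ j) {m : Γ} (hm : m ∈ XG y i j ⊔ XG y (-i) (-j)) (hs : m ∈ Swap ρ i j)
    {x : Γ} (hx : x ∈ XG y i j) : m * x * m⁻¹ ∈ XG y (rf i j i) (rf i j j) := by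
  have ne := R.ne
  have hji : j ≠ -i := fun e => hij (by rw [e, neg_neg])
  obtain ⟨rfi, rfj⟩ := rf_self1 hij
  have hm2 : m ∈ XG y j i ⊔ XG y (-j) (-i) := by rw [R.com.Xs j i, R.com.Xs (-j) (-i)]; exact hm
  have hs2 : m ∈ Swap ρ j i := by
    intro p; rw [← rf_comm i j p hij]; exact hs p
  refine transfer R A hij hs hij (P := QP i (-j)) ?_ ?_ hx ?_
  · left
    rw [cf_rf' ne hij, rfi, cf_neg]
    unfold cf; simp [hij2, hij, ne' ne j]
  · intro g hg h
    exact inj_Y' R A (i := i) (j := -j) hij.symm (fun e => hij2 (neg_inj.1 e).symm) hg h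
  · obtain ⟨c, rfl⟩ := (R.mem_X hij).1 hx
    have e1 : y i j c = ⁅y i i 1, y (-i) j (ε i * c)⁆ * (y j j (-(1 * (ε i * c) ^ 2)))⁻¹ := by
      rw [R.c3 hij2 hij, mul_inv_cancel_right]
      congr 1
      linear_combination (-c) * R.eps i
    have a1 := M_B1 R A hij hij2 hm hs (ne' ne i) (by unfold cf; simp [hij2, hij, ne' ne]) (SpR.y_mem (y := y) i i 1)
    have hmij : -i ≠ -j := fun e => hij2 (neg_inj.1 e)
    have a2 := M_B1 R A hji hij2.symm hm2 hs2 (k := j) (l := -i) (by rw [neg_neg]; exact hij2.symm)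
      (by unfold cf; simp [hij2.symm, hij, hji, hmij, ne' ne, ne, hji.symm]) (x := y (-i) j (ε i * c))
      (by rw [R.com.Xs]; exact SpR.y_mem _ _ _)
    have a3 := M_B1 R A hji hij2.symm hm2 hs2 (ne' ne j) (by unfold cf; simp [hij2.symm, hji, ne' ne])
      (SpR.y_mem (y := y) j j (-(1 * (ε i * c) ^ 2)))
    rw [rfi] at a1
    rw [← rf_comm i j _ hij, ← rf_comm i j _ hij, rf_neg ne _ _ _ hij, rfi, rfj, neg_neg] at a2
    rw [R.com.Xs] at a2
    rw [← rf_comm i j _ hij, rfj] at a3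
    have b1 : m * y i i 1 * m⁻¹ ∈ gp (XG y) (QP i (-j)) :=
      X_le_gp (k := -j) (l := -j) (by rw [neg_neg]; exact ne j) (Or.inr ⟨rfl, rfl⟩) a1
    have c2 : cf j (-i) i < 0 := by rw [(cf_self ne hij2.symm hji).1]; norm_num
    have b2 : m * y (-i) j (ε i * c) * m⁻¹ ∈ gp (XG y) (QP i (-j)) :=
      X_le_gp (k := j) (l := -i) (by rw [neg_neg]; exact hij2.symm) (Or.inl c2) a2
    have c3 : cf (-i) (-i) i < 0 := by
      rw [Opp.cf ne (k := i) (l := i) (Or.inl ⟨rfl, rfl⟩)]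
      unfold cf; simp [ne' ne]
    have b3 : m * y j j (-(1 * (ε i * c) ^ 2)) * m⁻¹ ∈ gp (XG y) (QP i (-j)) :=
      X_le_gp (k := -i) (l := -i) (by rw [neg_neg]; exact ne i) (Or.inl c3) a3
    have e2 : m * y i j c * m⁻¹ = ⁅m * y i i 1 * m⁻¹, m * y (-i) j (ε i * c) * m⁻¹⁆ *
        (m * y j j (-(1 * (ε i * c) ^ 2)) * m⁻¹)⁻¹ := by
      rw [e1]; simp only [commutatorElement_def]; group
    rw [e2]
    refine mul_mem ?_ (inv_mem b3)
    rw [commutatorElement_def]
    exact mul_mem (mul_mem (mul_mem b1 b2) (inv_mem b1)) (inv_mem b2)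

include R A in
lemma M_B5 {i : I} {m : Γ} (hm : m ∈ XG y i i ⊔ XG y (-i) (-i)) (hs : m ∈ Swap ρ i i)
    {x : Γ} (hx : x ∈ XG y i i) : m * x * m⁻¹ ∈ XG y (rf i i i) (rf i i i) := by
  have ne := R.ne
  have hii := ne' ne i
  obtain ⟨rfi, -⟩ := rf_self1 hii
  obtain ⟨j, h1, h2⟩ := R.two i
  have hij : i ≠ -j := fun e => h2 (by rw [e, neg_neg])
  have hmij : -i ≠ -j := fun e => h1 (neg_inj.1 e).symm
  have rfj : rf i i j = j := rf_of_ne h1 h1 h2 h2
  have rfnj : rf i i (-j) = -j := by rw [rf_neg ne _ _ _ hii, rfj]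
  refine transfer R A hii hs hii (P := QP i j) ?_ ?_ hx ?_
  · left
    rw [cf_rf' ne hii, rfi, cf_neg]
    unfold cf; simp [hii]
  · intro g hg h
    exact inj_Y' R A h1 h2 hg h
  · obtain ⟨c, rfl⟩ := (R.mem_X hii).1 hx
    have e1 : y i i c = (y j i (ε j * (-c) * 1))⁻¹ * ⁅y j j (-c), y (-j) i 1⁆ := by
      rw [R.c3 h1 h2, inv_mul_cancel_left]
      congr 1
      ring
    have a1 := M_A R A hii hm hs (k := j) (l := j) (ne' ne j) h1 h1 h2 h2 (SpR.y_mem (y := y) j j (-c))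
    have a2 := M_A R A hii hm hs (k := i) (l := -j) (by rw [neg_neg]; exact h1.symm) hij.symm hij.symm hmij.symm hmij.symm
      (x := y (-j) i 1) (by rw [R.com.Xs]; exact SpR.y_mem _ _ _)
    have a3 := M_A R A hii hm hs (k := i) (l := j) hij h1 h1 h2 h2
      (x := y j i (ε j * (-c) * 1)) (by rw [R.com.Xs]; exact SpR.y_mem _ _ _)
    rw [rfj] at a1
    rw [rfi, rfnj] at a2
    rw [rfi, rfj] at a3
    have b1 : m * y j j (-c) * m⁻¹ ∈ gp (XG y) (QP i j) :=
      X_le_gp (k := j) (l := j) (ne' ne j) (Or.inr ⟨rfl, rfl⟩) a1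
    have c2 : cf (-i) (-j) i < 0 := by unfold cf; simp [ne, hij.symm, hmij.symm]
    have b2 : m * y (-j) i 1 * m⁻¹ ∈ gp (XG y) (QP i j) :=
      X_le_gp (k := -i) (l := -j) (by rw [neg_neg]; exact h2.symm) (Or.inl c2) a2
    have c3 : cf (-i) j i < 0 := by unfold cf; simp [ne, h1, h2]
    have b3 : m * y j i (ε j * (-c) * 1) * m⁻¹ ∈ gp (XG y) (QP i j) :=
      X_le_gp (k := -i) (l := j) hmij (Or.inl c3) a3
    have e2 : m * y i i c * m⁻¹ = (m * y j i (ε j * (-c) * 1) * m⁻¹)⁻¹ * ⁅m * y j j (-c) * m⁻¹, m * y (-j) i 1 * m⁻¹⁆ := by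
      rw [e1]; simp only [commutatorElement_def]; group
    rw [e2]
    refine mul_mem (inv_mem b3) ?_
    rw [commutatorElement_def]
    exact mul_mem (mul_mem (mul_mem b1 b2) (inv_mem b1)) (inv_mem b2)

include R A in
theorem M_X {i j : I} (hij : i ≠ -j) {m : Γ} (hm : m ∈ XG y i j ⊔ XG y (-i) (-j)) (hs : m ∈ Swap ρ i j) {k l : I} (hkl : k ≠ -l)
    {x : Γ} (hx : x ∈ XG y k l) : m * x * m⁻¹ ∈ XG y (rf i j k) (rf i j l) := by
  have ne := R.ne
  have hji : j ≠ -i := fun e => hij (by rw [e, neg_neg])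
  have hij' : -i ≠ - -j := fun e => hij (neg_inj.1 e)
  have hlk : l ≠ -k := fun e => hkl (by rw [e, neg_neg])
  obtain ⟨rfi, rfj⟩ := rf_self1 hij
  have hm2 : m ∈ XG y j i ⊔ XG y (-j) (-i) := by rw [R.com.Xs j i, R.com.Xs (-j) (-i)]; exact hm
  have hs2 : m ∈ Swap ρ j i := by
    intro p; rw [← rf_comm i j p hij]; exact hs p
  have hm3 : m ∈ XG y (-i) (-j) ⊔ XG y (- -i) (- -j) := by rw [neg_neg, neg_neg, sup_comm]; exact hm
  have hs3 : m ∈ Swap ρ (-i) (-j) := by
    intro p; rw [rf_negneg' ne hij]; exact hs p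
  by_cases hl : l = i ∨ l = j ∨ l = -i ∨ l = -j
  swap
  · push Not at hl
    exact M_A R A hij hm hs hkl hl.1 hl.2.1 hl.2.2.1 hl.2.2.2 hx
  by_cases hk : k = i ∨ k = j ∨ k = -i ∨ k = -j
  swap
  · push Not at hk
    rw [R.com.Xs (rf i j k)]
    rw [R.com.Xs k] at hx
    exact M_A R A hij hm hs hlk hk.1 hk.2.1 hk.2.2.1 hk.2.2.2 hx
  by_cases hij2 : i = j
  · subst hij2
    have h1 : (k = i ∧ l = i) ∨ (k = -i ∧ l = -i) := by
      rcases hk with h | h | h | h <;> rcases hl with h' | h' | h' | h'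
      all_goals first
        | exact Or.inl ⟨h, h'⟩
        | exact Or.inr ⟨h, h'⟩
        | (exfalso; apply hkl; rw [h, h']; done)
        | (exfalso; apply hkl; rw [h, h', neg_neg]; done)
    rcases h1 with ⟨rfl, rfl⟩ | ⟨rfl, rfl⟩
    · exact M_B5 R A hm hs hx
    · have := M_B5 R A hm3 hs3 hx
      rwa [rf_negneg' ne hij] at this
  · have hij3 : -i ≠ -j := fun e => hij2 (neg_inj.1 e)
    have e1 : cf k l i - cf k l j = 2 ∨ cf k l j - cf k l i = 2 ∨ (k = i ∧ l = j) ∨ (k = j ∧ l = i) ∨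
        (k = -i ∧ l = -j) ∨ (k = -j ∧ l = -i) := by
      have hji3 : -j ≠ -i := hij3.symm
      have hji2 : j ≠ i := Ne.symm hij2
      rcases hk with h | h | h | h <;> rcases hl with h' | h' | h' | h' <;> subst h <;> subst h'
      all_goals first
        | (exfalso; exact hkl rfl)
        | (exfalso; exact hlk rfl)
        | exact Or.inr (Or.inr (Or.inl ⟨rfl, rfl⟩))
        | exact Or.inr (Or.inr (Or.inr (Or.inl ⟨rfl, rfl⟩)))
        | exact Or.inr (Or.inr (Or.inr (Or.inr (Or.inl ⟨rfl, rfl⟩))))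
        | exact Or.inr (Or.inr (Or.inr (Or.inr (Or.inr ⟨rfl, rfl⟩))))
        | (left; unfold cf; simp [hij2, hij, hji, hij3, hji3, hji2, hij.symm, hji.symm, ne' ne, ne]; done)
        | (right; left; unfold cf; simp [hij2, hij, hji, hij3, hji3, hji2, hij.symm, hji.symm, ne' ne, ne]; done)
    rcases e1 with h | h | ⟨rfl, rfl⟩ | ⟨rfl, rfl⟩ | ⟨rfl, rfl⟩ | ⟨rfl, rfl⟩
    · exact M_B1 R A hij hij2 hm hs hkl h hx
    · have := M_B1 R A hji (Ne.symm hij2) hm2 hs2 hkl h hx
      rwa [← rf_comm i j _ hij, ← rf_comm i j _ hij] at this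
    · exact M_B3 R A hij hij2 hm hs hx
    · have := M_B3 R A hji (Ne.symm hij2) hm2 hs2 hx
      rwa [← rf_comm _ _ _ hij, ← rf_comm _ _ _ hij] at this
    · have := M_B3 R A hij' hij3 hm3 hs3 hx
      rwa [rf_negneg' ne hij, rf_negneg' ne hij] at this
    · have hm4 : m ∈ XG y (-j) (-i) ⊔ XG y (- -j) (- -i) := by
        rw [neg_neg, neg_neg, sup_comm, R.com.Xs j i, R.com.Xs (-j) (-i)]; exact hm
      have hs4 : m ∈ Swap ρ (-j) (-i) := by
        intro p; rw [rf_negneg' ne hji, ← rf_comm i j _ hij]; exact hs p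
      have := M_B3 R A (fun e => hji (neg_inj.1 e)) hij3.symm hm4 hs4 hx
      rwa [rf_negneg' ne hji, rf_negneg' ne hji, ← rf_comm i j _ hij, ← rf_comm i j _ hij] at this

omit [Fintype I] in
lemma rf_comm' (ne : ∀ i : I, -i ≠ i) (i j k : I) : rf i j k = rf j i k := by
  by_cases h : i = -j
  · subst h
    unfold rf
    by_cases h1 : k = j
    · subst h1; simp [ne' ne k]
    · by_cases h2 : k = -j
      · subst h2; simp [ne]
      · simp [h1, h2]
  · exact rf_comm i j k h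

omit [Fintype I] in
lemma rf_conj (ne : ∀ i : I, -i ≠ i) {i j : I} (hij : i ≠ -j) (k l p : I) :
    rf (rf i j k) (rf i j l) (rf i j p) = rf i j (rf k l p) := by
  have h1 : ∀ a b : I, (rf i j a = rf i j b) ↔ (a = b) := fun a b => rf_inj ne hij
  have h2 : ∀ a b : I, (rf i j a = -rf i j b) ↔ (a = -b) := fun a b => by rw [← rf_neg ne _ _ _ hij, rf_inj ne hij]
  by_cases k1 : p = k
  · have : rf k l p = -l := by unfold rf; rw [if_pos k1]
    rw [this, rf_neg ne _ _ _ hij]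
    unfold rf at *
    rw [if_pos ((h1 _ _).2 k1)]
  by_cases k2 : p = l
  · have : rf k l p = -k := by unfold rf; rw [if_neg k1, if_pos k2]
    rw [this, rf_neg ne _ _ _ hij]
    unfold rf at *
    rw [if_neg (fun e => k1 ((h1 _ _).1 e)), if_pos ((h1 _ _).2 k2)]
  by_cases k3 : p = -k
  · have : rf k l p = l := by unfold rf; rw [if_neg k1, if_neg k2, if_pos k3]
    rw [this]
    unfold rf at *
    rw [if_neg (fun e => k1 ((h1 _ _).1 e)), if_neg (fun e => k2 ((h1 _ _).1 e)), if_pos ((h2 _ _).2 k3)]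
  by_cases k4 : p = -l
  · have : rf k l p = k := by unfold rf; rw [if_neg k1, if_neg k2, if_neg k3, if_pos k4]
    rw [this]
    unfold rf at *
    rw [if_neg (fun e => k1 ((h1 _ _).1 e)), if_neg (fun e => k2 ((h1 _ _).1 e)), if_neg (fun e => k3 ((h2 _ _).1 e)),
      if_pos ((h2 _ _).2 k4)]
  have : rf k l p = p := rf_of_ne k1 k2 k3 k4
  rw [this]
  exact rf_of_ne (fun e => k1 ((h1 _ _).1 e)) (fun e => k2 ((h1 _ _).1 e)) (fun e => k3 ((h2 _ _).1 e))
    (fun e => k4 ((h2 _ _).1 e))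

omit [InvolutiveNeg I] [Fintype I] in
lemma ee_ne (p : I) : ee (F := F) p ≠ 0 := by
  intro h
  have := congrFun h p
  rw [ee_apply, if_pos rfl] at this
  exact one_ne_zero this

lemma swap_ne {g : Γ} {c : F} {p q : I} (h : ρ g (ee p) = c • ee q) : c ≠ 0 := by
  intro h0
  rw [h0, zero_smul] at h
  exact ee_ne p ((ρ g).map_eq_zero_iff.1 h)

lemma swap_inv' {g : Γ} {c : F} {p q : I} (h : ρ g (ee p) = c • ee q) : ρ g⁻¹ (ee q) = c⁻¹ • ee p := by
  have h0 := swap_ne h
  have h1 : ee (F := F) q = c⁻¹ • ρ g (ee p) := by rw [h, smul_smul, inv_mul_cancel₀ h0, one_smul]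
  rw [h1, map_smul, ← LinearEquiv.mul_apply, ← map_mul, inv_mul_cancel, map_one]
  rfl

lemma swap_inv (ne : ∀ i : I, -i ≠ i) {i j : I} (hij : i ≠ -j) {m : Γ} (hm : m ∈ Swap ρ i j) : m⁻¹ ∈ Swap ρ i j := by
  intro q
  obtain ⟨c, hc⟩ := hm (rf i j q)
  rw [rf_rf ne _ _ _ hij] at hc
  exact ⟨c⁻¹, swap_inv' hc⟩

include A in
lemma swap_conj' (ne : ∀ i : I, -i ≠ i) {i j k l : I} (hij : i ≠ -j) {m m' : Γ} (hm : m ∈ Swap ρ i j) (hm' : m' ∈ Swap ρ k l) :
    m * m' * m⁻¹ ∈ Swap ρ (rf i j k) (rf i j l) := by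
  intro q
  obtain ⟨c, hc⟩ := swap_inv ne hij hm q
  obtain ⟨d, hd⟩ := hm' (rf i j q)
  obtain ⟨e, he⟩ := hm (rf k l (rf i j q))
  refine ⟨c * d * e, ?_⟩
  rw [rho_mul A, rho_mul A, hc, map_smul, map_smul, hd, map_smul, he, smul_smul, smul_smul]
  congr 1
  have := rf_conj ne hij k l (rf i j q)
  rw [rf_rf ne _ _ _ hij] at this
  rw [this]

include R A in
lemma n_swap_aux {i j : I} (hij : i ≠ -j) {a : F} (ha : a ≠ 0) :
    (∃ c : F, ρ (y (-i) (-j) (ε i * ε j * a⁻¹) * y i j a * y (-i) (-j) (ε i * ε j * a⁻¹)) (ee i) = c • ee (-j)) ∧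
    (∃ c : F, ρ (y (-i) (-j) (ε i * ε j * a⁻¹) * y i j a * y (-i) (-j) (ε i * ε j * a⁻¹)) (ee (-i)) = c • ee j) ∧
    (∀ p, p ≠ i → p ≠ j → p ≠ -i → p ≠ -j →
      ρ (y (-i) (-j) (ε i * ε j * a⁻¹) * y i j a * y (-i) (-j) (ε i * ε j * a⁻¹)) (ee p) = ee p) := by
  have ne := R.ne
  have hji : j ≠ -i := fun e => hij (by rw [e, neg_neg])
  have hmij : -i ≠ - -j := fun e => hij (neg_inj.1 e)
  have hni : i ≠ -i := ne' ne i
  have hnj : j ≠ -j := ne' ne j
  set s := ε i * ε j * a⁻¹ with hs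
  have hsa : s * a * ε i * ε j = 1 := by
    have e1 := R.eps i
    have e2 := R.eps j
    rw [hs]
    have : ε i * ε j * a⁻¹ * a * ε i * ε j = (ε i * ε i) * (ε j * ε j) * (a⁻¹ * a) := by ring
    rw [this, e1, e2, inv_mul_cancel₀ ha]; ring
  have eL : ∀ p, ρ (y (-i) (-j) s) (ee p) = ee p + (if p = j then s * ε (-j) else 0) • ee (-i) +
      (if p = i ∧ i ≠ j then s * ε (-i) else 0) • ee (-j) := by
    intro p
    rw [act_ee R A hmij]
    simp only [neg_neg, ne_eq, neg_inj]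
  have eY := fun p => act_ee R A hij a p
  simp only [rho_mul A]
  by_cases hij2 : i = j
  · subst hij2
    refine ⟨⟨s * ε (-i), ?_⟩, ⟨a * ε i, ?_⟩, ?_⟩
    · rw [eL]
      simp only [if_true, ne_eq, not_true_eq_false, and_false, if_false, zero_smul, add_zero, map_add, map_smul, eY, eL,
        if_neg hni, if_neg (ne i)]
      rw [R.eps_neg]
      linear_combination (norm := module) (-(hsa : s * a * ε i * ε i = 1)) • (ee i + (s * -ε i) • ee (-i))
    · simp only [if_true, ne_eq, not_true_eq_false, and_false, if_false, zero_smul, add_zero, map_add, map_smul, eY, eL,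
        if_neg hni, if_neg (ne i)]
      rw [R.eps_neg]
      linear_combination (norm := module) (-(hsa : s * a * ε i * ε i = 1)) • (ee (-i))
    · intro p h1 _ h2 _
      simp only [eL, eY, if_neg h1, if_neg h2, ne_eq, not_true_eq_false, and_false, if_false, zero_smul, add_zero]
  · have hji2 : j ≠ i := Ne.symm hij2
    have hnij : -i ≠ -j := fun e => hij2 (neg_inj.1 e)
    have hnji : -j ≠ -i := hnij.symm
    have hnij2 : -i ≠ j := hji.symm
    refine ⟨⟨s * ε (-i), ?_⟩, ⟨a * ε i, ?_⟩, ?_⟩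
    · rw [eL]
      simp only [if_true, ne_eq, hij2, not_false_eq_true, and_true, if_false, zero_smul, add_zero, map_add, map_smul, eY, eL,
        if_neg hni, if_neg hij, if_neg hnj.symm, if_neg hij.symm, if_neg hnji]
      rw [R.eps_neg]
      linear_combination (norm := module) (-(hsa : s * a * ε i * ε j = 1)) • (ee i + (s * -ε i) • ee (-j))
    · simp only [if_true, ne_eq, hij2, not_false_eq_true, and_true, if_false, zero_smul, add_zero, map_add, map_smul, eY, eL,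
        if_neg hni, if_neg hij, if_neg hnj.symm, if_neg hij.symm, if_neg hnji, if_neg hnij, if_neg hnij2, if_neg (ne i), if_neg hji2]
      rw [R.eps_neg]
      linear_combination (norm := module) (-(hsa : s * a * ε i * ε j = 1)) • (ee (-i))
    · intro p h1 h2 h3 h4
      simp only [eL, eY, if_neg h1, if_neg h2, if_neg h3, if_neg h4, ne_eq, hij2, not_false_eq_true, and_true, if_false, zero_smul, add_zero]

include R A in
lemma n_swap {i j : I} (hij : i ≠ -j) {a : F} (ha : a ≠ 0) :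
    y (-i) (-j) (ε i * ε j * a⁻¹) * y i j a * y (-i) (-j) (ε i * ε j * a⁻¹) ∈ Swap ρ i j := by
  have ne := R.ne
  have hji : j ≠ -i := fun e => hij (by rw [e, neg_neg])
  obtain ⟨a1, a2, a3⟩ := n_swap_aux R A hij ha
  obtain ⟨b1, b2, -⟩ := n_swap_aux R A hji ha
  rw [R.symm (-j) (-i), R.symm j i, mul_comm (ε j) (ε i)] at b1 b2
  intro p
  by_cases h1 : p = i
  · subst h1
    rw [(rf_self1 hij).1]; exact a1
  by_cases h2 : p = j
  · subst h2
    rw [(rf_self1 hij).2]; exact b1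
  by_cases h3 : p = -i
  · subst h3
    rw [rf_neg ne _ _ _ hij, (rf_self1 hij).1, neg_neg]; exact a2
  by_cases h4 : p = -j
  · subst h4
    rw [rf_neg ne _ _ _ hij, (rf_self1 hij).2, neg_neg]; exact b2
  exact ⟨1, by rw [a3 p h1 h2 h3 h4, rf_of_ne h1 h2 h3 h4, one_smul]⟩

/-- the elements inducing the reflections -/
def MM (y : I → I → F → Γ) (ρ : Γ →* ((I → F) ≃ₗ[F] (I → F))) (i j : I) : Set Γ :=
  {m | m ∈ XG y i j ⊔ XG y (-i) (-j) ∧ m ∈ Swap ρ i j}

include R A in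
theorem cls : Cls (XG y) (MM y ρ) where
  toCom := R.com
  Ms i j := by
    ext m
    unfold MM Swap
    simp only [Set.mem_setOf_eq, R.com.Xs j i, R.com.Xs (-j) (-i), rf_comm' R.ne j i]
  Mn i j hij := by
    ext m
    unfold MM Swap
    simp only [Set.mem_setOf_eq, rf_negneg' R.ne hij, neg_neg, sup_comm (XG y (-i) (-j))]
  M_ne i j hij := by
    refine ⟨_, ?_, n_swap R A hij one_ne_zero⟩
    exact mul_mem (mul_mem (mem_sup_right (SpR.y_mem _ _ _)) (mem_sup_left (SpR.y_mem _ _ _))) (mem_sup_right (SpR.y_mem _ _ _))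
  M_inv i j hij m hm := ⟨inv_mem hm.1, swap_inv R.ne hij hm.2⟩
  M_X i j hij k l hkl m hm x hx := M_X R A hij hm.1 hm.2 hkl hx
  M_M i j hij k l hkl m hm m' hm' := by
    refine ⟨?_, swap_conj' A R.ne hij hm.2 hm'.2⟩
    have hmkl : -k ≠ - -l := fun e => hkl (neg_inj.1 e)
    have : XG y k l ⊔ XG y (-k) (-l) ≤ (XG y (rf i j k) (rf i j l) ⊔ XG y (-rf i j k) (-rf i j l)).comap
        (MulAut.conj m).toMonoidHom := by
      refine sup_le ?_ ?_
      · intro x hx
        rw [mem_comap]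
        exact mem_sup_left (M_X R A hij hm.1 hm.2 hkl hx)
      · intro x hx
        rw [mem_comap]
        have := M_X R A hij hm.1 hm.2 hmkl hx
        rw [rf_neg R.ne _ _ _ hij, rf_neg R.ne _ _ _ hij] at this
        exact mem_sup_right this
    exact this hm'.1
  M_gp i j hij m hm := hm.1
  rank1 i j hij x hx hx1 := by
    have hmij : -i ≠ - -j := fun e => hij (neg_inj.1 e)
    obtain ⟨a, rfl⟩ := (R.mem_X hij).1 hx
    have ha : a ≠ 0 := fun h => hx1 (by rw [h, R.zero hij])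
    set s := ε i * ε j * a⁻¹ with hs
    refine ⟨y (-i) (-j) (-s), SpR.y_mem _ _ _, y (-i) (-j) (-s), SpR.y_mem _ _ _, _, ⟨?_, n_swap R A hij ha⟩, ?_⟩
    · exact mul_mem (mul_mem (mem_sup_right (SpR.y_mem _ _ _)) (mem_sup_left (SpR.y_mem _ _ _))) (mem_sup_right (SpR.y_mem _ _ _))
    · rw [R.neg hmij, ← hs]; group

/-- the stabilizer of a line -/
def St (ρ : Γ →* ((I → F) ≃ₗ[F] (I → F))) (o : I) : Subgroup Γ where
  carrier := {g | ∃ c : F, ρ g (ee o) = c • ee o}
  one_mem' := ⟨1, by rw [map_one, one_smul]; rfl⟩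
  mul_mem' := by
    rintro a b ⟨c, hc⟩ ⟨d, hd⟩
    exact ⟨d * c, by rw [map_mul, LinearEquiv.mul_apply, hd, map_smul, hc, smul_smul]⟩
  inv_mem' := by
    rintro a ⟨c, hc⟩
    exact ⟨c⁻¹, swap_inv' hc⟩

lemma mem_St {o : I} {g : Γ} : g ∈ St ρ o ↔ ∃ c : F, ρ g (ee o) = c • ee o := Iff.rfl

include R A in
lemma T_St (o : I) : (cls R A).T ≤ St ρ o := by
  unfold Cls.T
  rw [closure_le]
  rintro _ ⟨i, j, hij, m, hm, m', hm', rfl⟩
  obtain ⟨c, hc⟩ := hm'.2 o
  obtain ⟨d, hd⟩ := hm.2 (rf i j o)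
  rw [rf_rf R.ne _ _ _ hij] at hd
  exact ⟨c * d, by rw [rho_mul A, hc, map_smul, hd, smul_smul]⟩

include R A in
lemma NN_ee {i o : I} {n : Γ} (hn : n ∈ (cls R A).NN i o) : ∃ c : F, ρ n (ee o) = c • ee i := by
  rcases hn with ⟨rfl, hn⟩ | ⟨hio, hn⟩
  · exact T_St R A i hn
  · obtain ⟨c, hc⟩ := hn.2 o
    rw [rf_eq' R.ne hio] at hc
    exact ⟨c, hc⟩

include R A in
/-- an element acting trivially is in the torus -/
theorem mem_T {g : Γ} (hg : g ∈ gp (XG y) (fun _ _ => True) ⊔ (cls R A).T) (h : ∀ o, g ∈ St ρ o) : g ∈ (cls R A).T := by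
  have ne := R.ne
  refine (cls R A).descent (St ρ) (T_St R A) ?_ ?_ _ Finset.univ rfl (fun _ _ => Finset.mem_univ _) g ?_ (fun o _ => h o)
  · intro o k l hkl h0 x hx
    obtain ⟨a, rfl⟩ := (R.mem_X hkl).1 hx
    refine ⟨1, ?_⟩
    have h1 : k ≠ -o := by
      rintro rfl
      rcases cf_cases ne hkl o with e | e | e | e | e | e | e
      · exact ne o e.2.1
      · omega
      · exact ne o e.2.1
      · exact e.2.2.2 rfl
      · omega
      · omega
      · exact e.2.2.1 rfl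
    have h2 : l ≠ -o := by
      rintro rfl
      rcases cf_cases ne hkl o with e | e | e | e | e | e | e
      · exact ne o e.2.2
      · omega
      · exact e.2.2.2 rfl
      · exact ne o e.2.1
      · omega
      · omega
      · exact e.2.2.2.2 rfl
    rw [act_ee R A hkl, if_neg (fun e => h2 (by rw [e, neg_neg])), if_neg (fun e => h1 (by rw [e.1, neg_neg]))]
    simp
  · intro J i o hi ho t ht n hn htn
    have ht' : t ∈ gp (XG y) (Yp Finset.univ i) := gp_mono (fun _ _ _ h => ⟨Finset.mem_univ _, Finset.mem_univ _, h.2.2⟩) ht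
    obtain ⟨c, hc⟩ := NN_ee R A hn
    have hc0 := swap_ne hc
    obtain ⟨d, hd⟩ := htn
    have h1 : ρ t (ee i) i = 1 := by
      rw [coord_fix A (p := i) ?_ R ht' (ee i), ee_apply, if_pos rfl]
      intro k l hkl hP
      rcases cf_lt ne hkl hP.2.2 with e | e
      · refine ⟨by rw [e]; exact ne i, fun f => hkl ?_⟩
        rw [e, f]
      · refine ⟨fun f => hkl ?_, by rw [e]; exact ne i⟩
        rw [e, f, neg_neg]
    have h2 : c • ρ t (ee i) = d • ee o := by rw [← map_smul, ← hc, ← rho_mul A, hd]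
    have h3 := congrFun h2 i
    rw [Pi.smul_apply, h1, Pi.smul_apply, ee_apply, smul_eq_mul, smul_eq_mul, mul_one] at h3
    by_cases hio : i = o
    · subst hio
      rw [if_pos rfl, mul_one] at h3
      refine ⟨rfl, inj_Y R A ht' ?_⟩
      rw [← h3] at h2
      exact smul_right_injective _ hc0 h2
    · rw [if_neg hio, mul_zero] at h3
      exact absurd h3 hc0
  · refine (sup_le_sup_right (gp_mono fun _ _ _ _ => ⟨Finset.mem_univ _, Finset.mem_univ _⟩) _) hg

end act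

end Cfsg.Agent.Stb
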